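import Cfsg.Agent.PreUniq.MonGen
import Cfsg.Agent.MFive.Rho
import Cfsg.Agent.CTwoTab.HN
import Cfsg.Agent.OddHalf.D4.Spor.HN_m3
import Cfsg.Agent.FastGrp
import Cfsg.Agent.Prune
set_option linter.all false
prune_inst 0x7f00000000000000000000000000000000000000000000000000000000000000000000000000000000000000000000000000000000000000000000000000000000000000000000000000000000000000003fffffffffffffffffffffffffffbeffbdffffffff
open scoped Cfsg.Agent.FastGrp

-- merged: Cfsg.Agent.PreUniqB.Base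
section

/-!
# Preuniqueness for the Baby Monster: base (helper19)

`G` (the Monster), `t` an involution, `x` of order `p` commuting with `t`.

* `XTT x t = C(x) ∩ C(t)`, `RkT p x t` : every quotient of `C(x) ∩ C(t)` by `{1, t}` satisfies `RkOne p`;
* `RkT.conj`, `goodX_of_rkT` : the passage to `C(t) / ⟨t⟩`;
* `TCond.of_residual` : the criterion with the solvable residual.
-/

set_option autoImplicit false

namespace Cfsg.Agent.PreUniqB

open Cfsg Subgroup Cfsg.Agent.PreUniq Cfsg.Agent.SignalizersComponents.Components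
open scoped commutatorElement

universe u v

/-- `C(x) ∩ C(t)` -/
abbrev XTT {G : Type u} [Group G] (x t : G) : Subgroup G := centralizer ({x} : Set G) ⊓ centralizer ({t} : Set G)

/-- Every quotient of `C(x) ∩ C(t)` by `{1, t}` satisfies `RkOne p`. -/
def RkT {G : Type u} [Group G] (p : ℕ) (x t : G) : Prop :=
  ∀ (Y : Type u) [Group Y] [Finite Y] (f : ↥(XTT x t) →* Y), Function.Surjective f →
    (∀ c : ↥(XTT x t), f c = 1 ↔ (c : G) = 1 ∨ (c : G) = t) → RkOne p Y

section

variable {G : Type u} [Group G]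

theorem mem_XTT {x t g : G} : g ∈ XTT x t ↔ g * x = x * g ∧ g * t = t * g := by
  rw [Subgroup.mem_inf, mem_centralizer_singleton_iff, mem_centralizer_singleton_iff]

theorem conj_comm' {x g k : G} (h : k * x = x * k) : (g * k * g⁻¹) * (g * x * g⁻¹) = (g * x * g⁻¹) * (g * k * g⁻¹) := by
  calc g * k * g⁻¹ * (g * x * g⁻¹) = g * (k * x) * g⁻¹ := by group
    _ = g * (x * k) * g⁻¹ := by rw [h]
    _ = g * x * g⁻¹ * (g * k * g⁻¹) := by group

/-- conjugation of `C(x) ∩ C(t)` -/
def conjXTT (g x t : G) : ↥(XTT x t) ≃* ↥(XTT (g * x * g⁻¹) (g * t * g⁻¹)) where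
  toFun c := ⟨g * c * g⁻¹, mem_XTT.2 ⟨conj_comm' (mem_XTT.1 c.2).1, conj_comm' (mem_XTT.1 c.2).2⟩⟩
  invFun c := ⟨g⁻¹ * c * g, by
    have h := mem_XTT.1 c.2
    have h1 := conj_comm' (g := g⁻¹) h.1
    have h2 := conj_comm' (g := g⁻¹) h.2
    rw [inv_inv] at h1 h2
    refine mem_XTT.2 ⟨?_, ?_⟩
    · have e : g⁻¹ * (g * x * g⁻¹) * g = x := by group
      rw [e] at h1
      exact h1
    · have e : g⁻¹ * (g * t * g⁻¹) * g = t := by group
      rw [e] at h2
      exact h2⟩
  left_inv c := Subtype.ext (by show g⁻¹ * (g * (c : G) * g⁻¹) * g = c; group)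
  right_inv c := Subtype.ext (by show g * (g⁻¹ * (c : G) * g) * g⁻¹ = c; group)
  map_mul' a b := Subtype.ext (by
    show g * ((a : G) * b) * g⁻¹ = g * a * g⁻¹ * (g * b * g⁻¹); group)

theorem RkT.conj {p : ℕ} {g x t x' t' : G} (hx : g * x * g⁻¹ = x') (ht : g * t * g⁻¹ = t') (h : RkT p x t) :
    RkT p x' t' := by
  subst hx
  subst ht
  intro Y _ _ f hf hk
  refine h Y (f.comp (conjXTT g x t).toMonoidHom) (hf.comp (conjXTT g x t).surjective) fun c => ?_
  show f (conjXTT g x t c) = 1 ↔ _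
  rw [hk]
  show g * (c : G) * g⁻¹ = 1 ∨ g * (c : G) * g⁻¹ = g * t * g⁻¹ ↔ _
  constructor
  · rintro (h1 | h1)
    · left
      calc (c : G) = g⁻¹ * (g * c * g⁻¹) * g := by group
        _ = 1 := by rw [h1]; group
    · right
      calc (c : G) = g⁻¹ * (g * c * g⁻¹) * g := by group
        _ = t := by rw [h1]; group
  · rintro (h1 | h1)
    · left; rw [h1]; group
    · right; rw [h1]

end

/-- **The passage to `X = C(t) / {1, t}`.** -/
theorem goodX_of_rkT {G : Type u} [Group G] [Finite G] {t : G} (ht : orderOf t = 2) {X : Type u} [Group X] [Finite X]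
    {p : ℕ} (hp : p.Prime) (hp2 : p ≠ 2) (q : ↥(centralizer ({t} : Set G)) →* X) (hq : Function.Surjective q)
    (hk : ∀ c : ↥(centralizer ({t} : Set G)), q c = 1 ↔ (c : G) = 1 ∨ (c : G) = t)
    (h : ∀ x : G, orderOf x = p → x * t = t * x → RkT p x t) {x : X} (hx : orderOf x = p) : GoodX p x := by
  have : Fact p.Prime := ⟨hp⟩
  have htt : t * t = 1 := by rw [← pow_two, ← ht, pow_orderOf_eq_one]
  have ht1 : t ≠ 1 := by
    intro h1
    rw [h1, orderOf_one] at ht
    exact absurd ht (by norm_num)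
  obtain ⟨m, hm⟩ : Odd p := hp.odd_of_ne_two hp2
  have htp : t ^ p = t := by rw [hm, pow_succ, pow_mul, pow_two, htt, one_pow, one_mul]
  -- a lift of order `p`
  obtain ⟨w, hwq, hwp⟩ : ∃ w : ↥(centralizer ({t} : Set G)), q w = x ∧ (w : G) ^ p = 1 := by
    obtain ⟨y, hy⟩ := hq x
    have hyt : Commute (y : G) t := mem_centralizer_singleton_iff.1 y.2
    have h1 : q (y ^ p) = 1 := by rw [map_pow, hy, ← hx, pow_orderOf_eq_one]
    rcases (hk _).1 h1 with h2 | h2
    · exact ⟨y, hy, by rw [← h2]; rfl⟩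
    · refine ⟨y * ⟨t, mem_centralizer_singleton_iff.2 rfl⟩, ?_, ?_⟩
      · rw [map_mul, (hk ⟨t, mem_centralizer_singleton_iff.2 rfl⟩).2 (Or.inr rfl), mul_one, hy]
      · show ((y : G) * t) ^ p = 1
        have h3 : (y : G) ^ p = t := h2
        rw [hyt.mul_pow, htp, h3, htt]
  have hwo : orderOf (w : G) = p := by
    refine orderOf_eq_prime hwp fun h2 => ?_
    have h3 : w = 1 := Subtype.ext h2
    rw [h3, map_one] at hwq
    rw [← hwq, orderOf_one] at hx
    exact hp.one_lt.ne hx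
  have hwt : (w : G) * t = t * w := mem_centralizer_singleton_iff.1 w.2
  -- the surjection
  have hmem : ∀ c : ↥(XTT (w : G) t), (c : G) ∈ centralizer ({t} : Set G) := fun c => (mem_inf.1 c.2).2
  have hc : ∀ c : ↥(XTT (w : G) t), q ⟨c, hmem c⟩ ∈ centralizer ({x} : Set X) := by
    intro c
    rw [mem_centralizer_singleton_iff, ← hwq, ← map_mul, ← map_mul]
    congr 1
    exact Subtype.ext (mem_XTT.1 c.2).1
  let f : ↥(XTT (w : G) t) →* ↥(centralizer ({x} : Set X)) :=
    { toFun := fun c => ⟨q ⟨c, hmem c⟩, hc c⟩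
      map_one' := Subtype.ext (map_one q)
      map_mul' := fun a b => Subtype.ext (map_mul q ⟨a, hmem a⟩ ⟨b, hmem b⟩) }
  refine h (w : G) hwo hwt _ f ?_ ?_
  · rintro ⟨c, hcx⟩
    obtain ⟨d, rfl⟩ := hq c
    have h2 : q (d * w * d⁻¹ * w⁻¹) = 1 := by
      rw [map_mul, map_mul, map_mul, map_inv, map_inv, hwq, mem_centralizer_singleton_iff.1 hcx]
      group
    -- `d w d⁻¹` is `w` or `t w`, of order `p`
    have h3 : (d : G) * w = w * d := by
      rcases (hk _).1 h2 with h4 | h4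
      · have h5 : (d : G) * w * (d : G)⁻¹ * (w : G)⁻¹ = 1 := h4
        calc (d : G) * w = ((d : G) * w * (d : G)⁻¹ * (w : G)⁻¹) * (w * d) := by group
          _ = w * d := by rw [h5, one_mul]
      · exfalso
        have h5 : (d : G) * w * (d : G)⁻¹ * (w : G)⁻¹ = t := h4
        have h6 : (d : G) * w * (d : G)⁻¹ = t * w := by
          calc (d : G) * w * (d : G)⁻¹ = ((d : G) * w * (d : G)⁻¹ * (w : G)⁻¹) * w := by group
            _ = t * w := by rw [h5]
        have h7 : ((d : G) * w * (d : G)⁻¹) ^ p = 1 := by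
          rw [conj_pow, hwp]; group
        have h8 : Commute t (w : G) := hwt.symm
        rw [h6, h8.mul_pow, hwp, mul_one, htp] at h7
        exact ht1 h7
    exact ⟨⟨(d : G), mem_XTT.2 ⟨h3, mem_centralizer_singleton_iff.1 d.2⟩⟩, rfl⟩
  · intro c
    constructor
    · intro h1
      exact (hk ⟨c, hmem c⟩).1 (congrArg Subtype.val h1)
    · intro h1
      exact Subtype.ext ((hk ⟨c, hmem c⟩).2 h1)

/-- A central extension: the criterion with the solvable residual. -/
theorem of_residual {T : Type u} [Group T] [Finite T] {p : ℕ} {z : T} {S : Type v} [Group S] (hp : p.Prime)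
    (hp2 : p ≠ 2) (f : T →* S) (hf : Function.Surjective f) (hk : Group.IsSolvable ↥f.ker)
    (hk2 : ¬ p ^ 2 ∣ Nat.card ↥f.ker) (hS : IsSimpleGroup S) (hnc : ∃ a b : S, a * b ≠ b * a) (hpS : p ∣ Nat.card S)
    (hz : z * z = 1) (hzc : z ∈ center T)
    (hres : ∀ N : Subgroup T, N.Normal → N.map f = ⊤ → z ∈ N) : TCond p T z := by
  refine ⟨fun T' _ _ g hg hgp _ L hL => cond_one hp f hf hk hk2 hS hnc hpS T' g hg hgp L hL, ?_⟩
  intro T' _ _ g hg hgp hzg L hL hcore
  obtain ⟨h1, h2⟩ := simple_facts hS hnc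
  have h3 : centralizer ((⊤ : Subgroup S) : Set S) = ⊥ := by rw [coe_top, centralizer_univ, h1]
  have hle : g.ker ≤ f.ker := le_ker_of_coprime hp f hf h2 h3 (by rw [card_top]; exact hpS) inferInstance hgp
  obtain ⟨F, hF, hFg, hFs, -⟩ := exists_factor g hg f hf hk hle
  have hns : ¬ Group.IsSolvable ↥L := quasisimple_not_isSolvable hL.2
  -- `F(L) = S`
  have h4 : L.map F = ⊤ := by
    rcases component_le_or_commutator_eq_bot h2 (hL.1.map hF) with h | h
    · exact top_le_iff.1 h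
    · exfalso
      rw [commutator_comm, commutator_eq_bot_iff_le_centralizer, h3, le_bot_iff, Subgroup.map_eq_bot_iff] at h
      apply hns
      exact Group.isSolvable_of_isSolvable_injective (f := inclusion h) (inclusion_injective h)
  -- `L` is normal
  have hLn : L.Normal := by
    refine ⟨fun l hl y => ?_⟩
    have hLy : IsComponent (L.map (MulAut.conj y).toMonoidHom) := isComponent_map_equiv (MulAut.conj y) hL
    have e : L.map (MulAut.conj y).toMonoidHom = L := by
      by_contra hne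
      have h5 := component_commutator_eq_bot_of_ne hLy hL hne
      have h6 : (L.map (MulAut.conj y).toMonoidHom).map F ≤ centralizer ((L.map F : Subgroup S) : Set S) := by
        rw [← commutator_eq_bot_iff_le_centralizer, ← map_commutator, h5, Subgroup.map_bot]
      rw [h4, h3, le_bot_iff, Subgroup.map_eq_bot_iff] at h6
      apply quasisimple_not_isSolvable hLy.2
      exact Group.isSolvable_of_isSolvable_injective (f := inclusion h6) (inclusion_injective h6)
    have h7 : y * l * y⁻¹ ∈ L.map (MulAut.conj y).toMonoidHom := ⟨l, hl, rfl⟩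
    rwa [e] at h7
  have hgz : g z ∈ L := by
    have h5 : (L.comap g).Normal := hLn.comap g
    refine hres (L.comap g) h5 ?_
    rw [eq_top_iff]
    intro s _
    have hs : s ∈ L.map F := by rw [h4]; exact mem_top s
    obtain ⟨y, hy, rfl⟩ := hs
    obtain ⟨l, rfl⟩ := hg y
    exact ⟨l, hy, (hFg l).symm⟩
  have hgz1 : g z ≠ 1 := hzg
  -- `⟨g z⟩` is a normal `p'`-subgroup of `L`
  have hn : (zpowers (⟨g z, hgz⟩ : ↥L)).Normal := by
    have hc : (⟨g z, hgz⟩ : ↥L) ∈ center ↥L := by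
      rw [mem_center_iff]
      rintro ⟨y, hy⟩
      obtain ⟨t, rfl⟩ := hg y
      apply Subtype.ext
      show g t * g z = g z * g t
      rw [← map_mul, ← map_mul, mem_center_iff.1 hzc t]
    refine ⟨fun a ha b => ?_⟩
    have ha' : a ∈ center ↥L := (zpowers_le.2 hc) ha
    have e : b * a * b⁻¹ = a := by rw [mem_center_iff.1 ha' b]; group
    rw [e]; exact ha
  have ho : orderOf (⟨g z, hgz⟩ : ↥L) = 2 := by
    have : Fact (Nat.Prime 2) := ⟨Nat.prime_two⟩
    apply orderOf_eq_prime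
    · apply Subtype.ext
      show g z ^ 2 = 1
      rw [← map_pow, pow_two, hz, map_one]
    · intro h
      exact hgz1 (congrArg Subtype.val h)
  have hcard : (Nat.card ↥(zpowers (⟨g z, hgz⟩ : ↥L))).Coprime p := by
    rw [Nat.card_zpowers, ho]
    exact (Nat.coprime_primes Nat.prime_two hp).2 (Ne.symm hp2)
  have h7 := Cfsg.Agent.Lib.Cores.le_pPrimeCore hn hcard
  rw [hcore, le_bot_iff, zpowers_eq_bot] at h7
  exact hgz1 (congrArg Subtype.val h7)

end Cfsg.Agent.PreUniqB

end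

-- merged: Cfsg.Agent.PreUniqB.RkNormal
section

/-!
# `RkOne` for quotients of groups with a normal subgroup mapping onto a simple group (helper20)

* `rkOne_of_normal`: `K ≤ N` normal in `D`, `N / K = S` simple, `|D : N| ≤ 2`, `K` solvable, `p²` does not divide `|K|`,
  `g : D →* Y` onto with kernel in `K`: `RkOne p Y`;
* `rkT_of`: `ψ : C(x) →* F` onto with kernel `⟨x⟩`, `C_F(ψ t)` has a subgroup `N` of index at most 2 with `N / {1, ψ t}` simple:
  `RkT p x t`;
* `card_le_four`: a normal 2-subgroup of such a `C_F(σ)` has order at most 4.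
-/

set_option autoImplicit false

namespace Cfsg.Agent.PreUniqB

open Cfsg Subgroup Cfsg.Agent.PreUniq Cfsg.Agent.SignalizersComponents.Components
open scoped commutatorElement

universe u v w

section normal

variable {D : Type u} [Group D] {S : Type v} [Group S] {N K : Subgroup D}

theorem center_simple (hS : IsSimpleGroup S) (hnc : ∃ a b : S, a * b ≠ b * a) : center S = ⊥ :=
  (simple_facts hS hnc).1

/-- the elements acting trivially on `N / K` -/
def actKer (N K : Subgroup D) [K.Normal] : Subgroup D :=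
  (centralizer ((N.map (QuotientGroup.mk' K) : Subgroup (D ⧸ K)) : Set (D ⧸ K))).comap (QuotientGroup.mk' K)

theorem mem_actKer [K.Normal] {d : D} : d ∈ actKer N K ↔ ∀ n ∈ N, ⁅d, n⁆ ∈ K := by
  rw [actKer, mem_comap, mem_centralizer_iff]
  constructor
  · intro h n hn
    have h1 := h _ ⟨n, hn, rfl⟩
    rw [← QuotientGroup.eq_one_iff]
    have h2 : ((⁅d, n⁆ : D) : D ⧸ K) = ⁅(d : D ⧸ K), (n : D ⧸ K)⁆ := rfl
    rw [h2, commutatorElement_eq_one_iff_mul_comm]
    exact h1.symm
  · rintro h _ ⟨n, hn, rfl⟩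
    have h1 := (QuotientGroup.eq_one_iff (⁅d, n⁆ : D)).2 (h n hn)
    have h2 : ((⁅d, n⁆ : D) : D ⧸ K) = ⁅(d : D ⧸ K), (n : D ⧸ K)⁆ := rfl
    rw [h2, commutatorElement_eq_one_iff_mul_comm] at h1
    exact h1.symm

theorem actKer_normal [K.Normal] (hN : N.Normal) : (actKer N K).Normal := by
  have h1 : (N.map (QuotientGroup.mk' K)).Normal := hN.map _ (QuotientGroup.mk'_surjective _)
  have h2 : (centralizer ((N.map (QuotientGroup.mk' K) : Subgroup (D ⧸ K)) : Set (D ⧸ K))).Normal :=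
    Subgroup.normal_centralizer
  exact h2.comap _

theorem K_le_actKer [hK : K.Normal] : K ≤ actKer N K := by
  intro k hk
  rw [mem_actKer]
  intro n _
  rw [commutatorElement_def, mul_assoc, mul_assoc]
  refine K.mul_mem hk ?_
  rw [← mul_assoc]
  exact hK.conj_mem _ (K.inv_mem hk) n

theorem inf_actKer [hK : K.Normal] (hKN : K ≤ N) (hS : IsSimpleGroup S) (hnc : ∃ a b : S, a * b ≠ b * a)
    (f : ↥N →* S) (hf : Function.Surjective f) (hfk : ∀ n : ↥N, f n = 1 ↔ (n : D) ∈ K) : N ⊓ actKer N K = K := by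
  apply le_antisymm
  · rintro n ⟨hn, hn2⟩
    replace hn2 := mem_actKer.1 hn2
    have h1 : f ⟨n, hn⟩ ∈ center S := by
      rw [mem_center_iff]
      intro s
      obtain ⟨m, rfl⟩ := hf s
      have h2 : f ⁅(⟨n, hn⟩ : ↥N), m⁆ = 1 := (hfk _).2 (hn2 m m.2)
      rw [map_commutatorElement, commutatorElement_eq_one_iff_mul_comm] at h2
      exact h2.symm
    rw [center_simple hS hnc, mem_bot] at h1
    exact (hfk _).1 h1
  · exact le_inf hKN K_le_actKer

/-- **`RkOne` for a quotient.** -/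
theorem rkOne_of_normal [Finite D] {Y : Type w} [Group Y] [Finite Y] {p : ℕ} (hp : p.Prime) (hp2 : p ≠ 2)
    (hN : N.Normal) (hK : K.Normal) (hKN : K ≤ N) (hS : IsSimpleGroup S) (hnc : ∃ a b : S, a * b ≠ b * a)
    (hpS : p ∣ Nat.card S) (f : ↥N →* S) (hf : Function.Surjective f) (hfk : ∀ n : ↥N, f n = 1 ↔ (n : D) ∈ K)
    (hKs : Group.IsSolvable ↥K) (hKp : ¬ p ^ 2 ∣ Nat.card ↥K) (hDN : ∀ c d : D, c ∉ N → d ∉ N → c * d ∈ N)
    (g : D →* Y) (hg : Function.Surjective g) (hgk : ∀ d, g d = 1 → d ∈ K) : RkOne p Y := by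
  have hC : (actKer N K).Normal := actKer_normal hN
  set C := actKer N K with hCdef
  have hinf : N ⊓ C = K := inf_actKer hKN hS hnc f hf hfk
  let q : D →* D ⧸ C := QuotientGroup.mk' C
  have hq : Function.Surjective q := QuotientGroup.mk'_surjective _
  have hqk : q.ker = C := QuotientGroup.ker_mk' C
  -- the component
  let r : ↥N →* ↥(N.map q) := q.subgroupMap N
  have hr : Function.Surjective r := MonoidHom.subgroupMap_surjective _ _
  have hrk : r.ker = f.ker := by
    ext n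
    rw [MonoidHom.mem_ker, MonoidHom.mem_ker, hfk, ← hinf]
    constructor
    · intro h
      refine ⟨n.2, ?_⟩
      show (n : D) ∈ C
      rw [← hqk, MonoidHom.mem_ker]
      exact congrArg Subtype.val h
    · rintro ⟨-, h⟩
      replace h : (n : D) ∈ C := h
      rw [← hqk, MonoidHom.mem_ker] at h
      exact Subtype.ext h
  have e : ↥(N.map q) ≃* S := equivOfKer r f hr hf hrk
  have hcomp : IsComponent (N.map q) := by
    refine ⟨(hN.map q hq).isSubnormal, ?_⟩
    have h1 := (simple_facts hS hnc).2.2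
    exact isQuasisimple_of_mulEquiv (Subgroup.topEquiv.trans e.symm) h1
  have hcent : centralizer ((N.map q : Subgroup (D ⧸ C)) : Set (D ⧸ C)) = ⊥ := by
    rw [eq_bot_iff]
    intro w hw
    obtain ⟨d, rfl⟩ := hq w
    rw [mem_bot]
    rw [← MonoidHom.mem_ker, hqk, hCdef, mem_actKer]
    intro n hn
    rw [← hinf]
    have h1 : ⁅d, n⁆ ∈ N := by
      rw [commutatorElement_def]
      exact N.mul_mem (hN.conj_mem _ hn d) (N.inv_mem hn)
    refine ⟨h1, ?_⟩
    show ⁅d, n⁆ ∈ C
    rw [← hqk, MonoidHom.mem_ker, map_commutatorElement, commutatorElement_eq_one_iff_mul_comm]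
    exact ((mem_centralizer_iff.1 hw) _ ⟨n, hn, rfl⟩).symm
  have hKC : K ≤ C := K_le_actKer
  -- `C / K` has order at most 2
  have hKn : (K.subgroupOf C).Normal := hK.subgroupOf C
  have hidx : ∀ c d : ↥C, c ∉ K.subgroupOf C → d ∉ K.subgroupOf C → c * d ∈ K.subgroupOf C := by
    intro c d hc hd
    rw [mem_subgroupOf, ← hinf] at hc hd ⊢
    exact ⟨hDN c d (fun h => hc ⟨h, c.2⟩) (fun h => hd ⟨h, d.2⟩), (c * d).2⟩
  have hsq : ∀ c : ↥C ⧸ K.subgroupOf C, c * c = 1 := by
    intro c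
    obtain ⟨c, rfl⟩ := QuotientGroup.mk_surjective c
    show ((c * c : ↥C) : ↥C ⧸ K.subgroupOf C) = 1
    rw [QuotientGroup.eq_one_iff]
    by_cases hc : c ∈ K.subgroupOf C
    · exact mul_mem hc hc
    · exact hidx c c hc hc
  have hp2' : IsPGroup 2 (↥C ⧸ K.subgroupOf C) := fun c => ⟨1, by rw [pow_one, pow_two, hsq]⟩
  have : Fact (Nat.Prime 2) := ⟨Nat.prime_two⟩
  have hCs : Group.IsSolvable ↥C := by
    rw [Group.isSolvable_iff_subgroup_quotient (K.subgroupOf C)]
    refine ⟨?_, ?_⟩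
    · exact Group.isSolvable_of_isSolvable_injective (f := (subgroupOfEquivOfLe hKC).toMonoidHom)
        (subgroupOfEquivOfLe hKC).injective
    · have := hp2'.isNilpotent
      infer_instance
  have hCp : ¬ p ^ 2 ∣ Nat.card ↥C := by
    intro h
    obtain ⟨m, hm⟩ := hp2'.exists_card_eq
    have h1 := (K.subgroupOf C).card_eq_card_quotient_mul_card_subgroup
    rw [hm, Nat.card_congr (subgroupOfEquivOfLe hKC).toEquiv] at h1
    rw [h1] at h
    have hcop : (p ^ 2).Coprime (2 ^ m) :=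
      Nat.Coprime.pow _ _ ((Nat.coprime_primes hp Nat.prime_two).2 hp2)
    exact hKp (hcop.dvd_of_dvd_mul_left h)
  obtain ⟨F, hF, -, hFs, hFc⟩ := exists_factor g hg q hq (by rw [hqk]; exact hCs) (by
    intro d hd
    rw [hqk]
    exact hKC (hgk d hd))
  rw [hqk] at hFc
  refine RkOne.of_hom hp F hF hFs (fun h => hCp (h.trans hFc)) hcomp hcent ?_
  rw [Nat.card_congr e.toEquiv]
  exact hpS

end normal

/-! ### Index at most 2 -/

theorem relIndex_dvd_two {D : Type u} [Group D] {A B : Subgroup D}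
    (h : ∀ c ∈ B, ∀ d ∈ B, c ∉ A → d ∉ A → c * d ∈ A) : A.relIndex B ∣ 2 := by
  by_cases hBA : B ≤ A
  · rw [relIndex_eq_one.2 hBA]; exact one_dvd 2
  · obtain ⟨b, hb, hbA⟩ := SetLike.not_le_iff_exists.1 hBA
    have h1 : (A.subgroupOf B).index = 2 := by
      rw [index_eq_two_iff]
      refine ⟨⟨b, hb⟩, fun c => ?_⟩
      rw [mem_subgroupOf, mem_subgroupOf]
      by_cases hc : (c : D) ∈ A
      · right
        refine ⟨hc, fun h2 => hbA ?_⟩
        have h3 := A.mul_mem (A.inv_mem hc) h2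
        have h4 : (c : D)⁻¹ * ((c * ⟨b, hb⟩ : ↥B) : D) = b := by
          show (c : D)⁻¹ * ((c : D) * b) = b
          group
        rwa [h4] at h3
      · left
        exact ⟨h c c.2 b hb hc hbA, hc⟩
    rw [relIndex, h1]

theorem card_dvd_two_mul {D : Type u} [Group D] [Finite D] {A B : Subgroup D} (hAB : A ≤ B)
    (h : ∀ c ∈ B, ∀ d ∈ B, c ∉ A → d ∉ A → c * d ∈ A) : Nat.card ↥B ∣ Nat.card ↥A * 2 := by
  rw [← (A.subgroupOf B).card_mul_index, Nat.card_congr (subgroupOfEquivOfLe hAB).toEquiv]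
  exact Nat.mul_dvd_mul_left _ (relIndex_dvd_two h)

/-! ### Centralizers with a normal subgroup `2.S` of index at most 2 -/

/-- `C_F(σ)` has the normal subgroup `N` of index at most 2 and `φ : N → S` is onto with kernel `{1, σ}`. -/
structure Two {F : Type v} [Group F] (σ : F) (N : Subgroup F) {S : Type w} [Group S] (φ : ↥N →* S) : Prop where
  mem : σ ∈ N
  comm : ∀ n ∈ N, n * σ = σ * n
  norm : ∀ c, c * σ = σ * c → ∀ n ∈ N, c * n * c⁻¹ ∈ N
  two : ∀ c d, c * σ = σ * c → d * σ = σ * d → c ∉ N → d ∉ N → c * d ∈ N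
  surj : Function.Surjective φ
  ker : ∀ n : ↥N, φ n = 1 ↔ (n : F) = 1 ∨ (n : F) = σ

section two

variable {F : Type v} [Group F] {σ : F} {N : Subgroup F} {S : Type w} [Group S] {φ : ↥N →* S}

theorem mem_zpowers_two (h : σ * σ = 1) {c : F} : c ∈ zpowers σ ↔ c = 1 ∨ c = σ := by
  constructor
  · rintro ⟨i, rfl⟩
    have h2 : σ ^ (2 : ℤ) = 1 := by rw [zpow_ofNat, pow_two, h]
    rcases Int.even_or_odd' i with ⟨k, rfl | rfl⟩
    · left
      show σ ^ (2 * k) = 1
      rw [zpow_mul, h2, one_zpow]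
    · right
      show σ ^ (2 * k + 1) = σ
      rw [zpow_add, zpow_mul, h2, one_zpow, one_mul, zpow_one]
  · rintro (rfl | rfl)
    · exact one_mem _
    · exact mem_zpowers c

theorem Two.sq (h : Two σ N φ) : σ * σ = 1 := by
  have h1 : φ ⟨σ, h.mem⟩ = 1 := (h.ker ⟨σ, h.mem⟩).2 (Or.inr rfl)
  have h2 : φ (⟨σ, h.mem⟩ * ⟨σ, h.mem⟩) = 1 := by rw [map_mul, h1, one_mul]
  rcases (h.ker _).1 h2 with h3 | h3
  · exact h3
  · have h4 : σ * σ = σ := h3
    have h5 : σ = 1 := mul_left_cancel (h4.trans (mul_one σ).symm)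
    rw [h5, one_mul]

/-- A normal 2-subgroup of `C_F(σ)` has order at most 4. -/
theorem Two.card_le_four [Finite F] (h : Two σ N φ) (hS : IsSimpleGroup S) (hnc : ∃ a b : S, a * b ≠ b * a)
    {P : Subgroup F} (hP : IsPGroup 2 ↥P) (hPσ : ∀ c ∈ P, c * σ = σ * c)
    (hPn : ∀ c, c * σ = σ * c → ∀ q ∈ P, c * q * c⁻¹ ∈ P) : Nat.card ↥P ∣ 4 := by
  have : Fact (Nat.Prime 2) := ⟨Nat.prime_two⟩
  have h1 : Nat.card ↥P ∣ Nat.card ↥(P ⊓ N) * 2 := by
    refine card_dvd_two_mul inf_le_left fun c hc d hd hcN hdN => ?_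
    exact ⟨P.mul_mem hc hd, h.two c d (hPσ c hc) (hPσ d hd) (fun h2 => hcN ⟨hc, h2⟩) (fun h2 => hdN ⟨hd, h2⟩)⟩
  -- the image in `S`
  let P1 : Subgroup ↥N := P.subgroupOf N
  have hn : P1.Normal := ⟨fun q hq c => mem_subgroupOf.2 (hPn c (h.comm c c.2) q (mem_subgroupOf.1 hq))⟩
  have hn2 : (P1.map φ).Normal := hn.map φ h.surj
  have hp1 : IsPGroup 2 ↥P1 := hP.comap_subtype
  have hp3 : IsPGroup 2 ↥(P1.map φ) := hp1.map φ
  have hbot : P1.map φ = ⊥ := by
    rcases hn2.eq_bot_or_eq_top with h2 | h2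
    · exact h2
    · exfalso
      rw [h2] at hp3
      have h3 : IsPGroup 2 S := hp3.of_equiv topEquiv
      have h4 : Nontrivial S := hS.toNontrivial
      have : Finite S := Finite.of_surjective φ h.surj
      have h5 := h3.center_nontrivial
      rw [center_simple hS hnc] at h5
      exact not_nontrivial _ h5
  have h2 : P ⊓ N ≤ zpowers σ := by
    rintro c ⟨hcP, hcN⟩
    rw [mem_zpowers_two h.sq, ← h.ker ⟨c, hcN⟩]
    have h3 : φ ⟨c, hcN⟩ ∈ P1.map φ := ⟨⟨c, hcN⟩, mem_subgroupOf.2 hcP, rfl⟩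
    rw [hbot, mem_bot] at h3
    exact h3
  have h3 : Nat.card ↥(zpowers σ) ∣ 2 := by
    rw [Nat.card_zpowers]
    exact orderOf_dvd_of_pow_eq_one (by rw [pow_two, h.sq])
  have h4 : Nat.card ↥(P ⊓ N) ∣ 2 := (card_dvd_of_le h2).trans h3
  exact h1.trans (Nat.mul_dvd_mul_right h4 2)

end two

/-- **`RkT` from the structure of `C_F(ψ t)`**, `ψ : C(x) → F` onto with kernel `⟨x⟩`. -/
theorem rkT_of {G : Type u} [Group G] [Finite G] {p : ℕ} (hp : p.Prime) (hp2 : p ≠ 2) {x t : G} (hx : orderOf x = p)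
    (ht : orderOf t = 2) (hxt : x * t = t * x) {F : Type v} [Group F] (ψ : ↥(centralizer ({x} : Set G)) →* F)
    (hψ : Function.Surjective ψ) (hψk : ∀ c : ↥(centralizer ({x} : Set G)), ψ c = 1 ↔ (c : G) ∈ zpowers x)
    {N : Subgroup F} {S : Type w} [Group S] (hS : IsSimpleGroup S) (hnc : ∃ a b : S, a * b ≠ b * a)
    (hpS : p ∣ Nat.card S) {φ : ↥N →* S}
    (h : Two (ψ ⟨t, mem_centralizer_singleton_iff.2 hxt.symm⟩) N φ) : RkT p x t := by
  set t' : ↥(centralizer ({x} : Set G)) := ⟨t, mem_centralizer_singleton_iff.2 hxt.symm⟩ with ht'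
  set σ := ψ t' with hσ
  intro Y _ _ g hg hgk
  have htt : t * t = 1 := by rw [← pow_two, ← ht, pow_orderOf_eq_one]
  have ht1 : t ≠ 1 := by
    intro h1
    rw [h1, orderOf_one] at ht
    exact absurd ht (by norm_num)
  obtain ⟨m, hm⟩ : Odd p := hp.odd_of_ne_two hp2
  have htp : t ^ p = t := by rw [hm, pow_succ, pow_mul, pow_two, htt, one_pow, one_mul]
  have hxp : x ^ p = 1 := by rw [← hx, pow_orderOf_eq_one]
  -- elements commuting with `t` modulo `⟨x⟩`
  have hlift : ∀ c : ↥(centralizer ({x} : Set G)), ψ c * σ = σ * ψ c → (c : G) * t = t * c := by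
    intro c hc
    have h1 : ψ (c * t' * c⁻¹ * t'⁻¹) = 1 := by
      rw [map_mul, map_mul, map_mul, map_inv, map_inv, ← hσ, hc]
      group
    obtain ⟨i, hi⟩ := (hψk _).1 h1
    have hi' : x ^ i = (c : G) * t * (c : G)⁻¹ * t⁻¹ := hi
    have h2 : (c : G) * t * (c : G)⁻¹ = x ^ i * t := by rw [hi']; group
    have h3 : ((c : G) * t * (c : G)⁻¹) ^ p = x ^ i * t := by
      rw [conj_pow, htp, h2]
    have hc2 : Commute (x ^ i) t := (show Commute x t from hxt).zpow_left i
    have h4 : (x ^ i) ^ p = 1 := by rw [← zpow_natCast, ← zpow_mul, mul_comm, zpow_mul, zpow_natCast, hxp, one_zpow]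
    rw [h2, hc2.mul_pow, h4, one_mul, htp] at h3
    rw [← h3] at h2
    calc (c : G) * t = (c : G) * t * (c : G)⁻¹ * c := by group
      _ = t * c := by rw [h2]
  let ψD : ↥(XTT x t) →* F := ψ.comp (inclusion inf_le_left)
  have hψD : ∀ d : ↥(XTT x t), ψD d * σ = σ * ψD d := by
    intro d
    have h1 : (inclusion inf_le_left : ↥(XTT x t) →* ↥(centralizer ({x} : Set G))) d * t' =
        t' * (inclusion inf_le_left : ↥(XTT x t) →* ↥(centralizer ({x} : Set G))) d := Subtype.ext (mem_XTT.1 d.2).2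
    have h2 := congrArg ψ h1
    rwa [map_mul, map_mul] at h2
  have hψD1 : ∀ d : ↥(XTT x t), ψD d = 1 ↔ (d : G) ∈ zpowers x := fun d => hψk _
  have hcz : ∀ c : F, c ∈ zpowers σ → ∀ a : F, a * σ = σ * a → a * c * a⁻¹ = c := by
    rintro _ ⟨i, rfl⟩ a ha
    have h1 : Commute a (σ ^ i) := (show Commute a σ from ha).zpow_right i
    show a * σ ^ i * a⁻¹ = σ ^ i
    rw [h1.eq]; group
  have hNn : (N.comap ψD).Normal := ⟨fun n hn d => by
    rw [mem_comap, map_mul, map_mul, map_inv]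
    exact h.norm _ (hψD d) _ hn⟩
  have hKn : ((zpowers σ).comap ψD).Normal := ⟨fun n hn d => by
    rw [mem_comap, map_mul, map_mul, map_inv, hcz _ hn _ (hψD d)]
    exact hn⟩
  have hKN : (zpowers σ).comap ψD ≤ N.comap ψD := comap_mono (zpowers_le.2 h.mem)
  have hKx : ∀ k : ↥(XTT x t), k ∈ (zpowers σ).comap ψD → (k : G) ∈ zpowers x ∨ (k : G) * t ∈ zpowers x := by
    intro k hk
    rw [mem_comap, mem_zpowers_two h.sq] at hk
    rcases hk with hk | hk
    · exact Or.inl ((hψD1 k).1 hk)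
    · right
      have h1 : ψ ((inclusion inf_le_left : ↥(XTT x t) →* ↥(centralizer ({x} : Set G))) k * t') = 1 := by
        rw [map_mul]
        show ψD k * σ = 1
        rw [hk, h.sq]
      exact (hψk _).1 h1
  -- `K` is abelian
  have hKs : Group.IsSolvable ↥((zpowers σ).comap ψD) := by
    refine Group.isSolvable_of_comm fun a b => ?_
    apply Subtype.ext
    apply Subtype.ext
    show (a : G) * (b : G) = (b : G) * (a : G)
    have key : ∀ k : ↥(XTT x t), k ∈ (zpowers σ).comap ψD → (k : G) ∈ closure ({x, t} : Set G) := by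
      intro k hk
      have hxm : x ∈ closure ({x, t} : Set G) := subset_closure (by simp)
      have htm : t ∈ closure ({x, t} : Set G) := subset_closure (by simp)
      rcases hKx k hk with h1 | h1
      · exact (zpowers_le.2 hxm) h1
      · have h2 := mul_mem ((zpowers_le.2 hxm) h1) htm
        rwa [mul_assoc, htt, mul_one] at h2
    have hcomm : ∀ a ∈ ({x, t} : Set G), ∀ b ∈ ({x, t} : Set G), a * b = b * a := by
      rintro a (rfl | rfl) b (rfl | rfl)
      · rfl
      · exact hxt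
      · exact hxt.symm
      · rfl
    have h2 : IsMulCommutative ↥(closure ({x, t} : Set G)) := Subgroup.isMulCommutative_closure hcomm
    exact congrArg Subtype.val (h2.is_comm.comm ⟨(a : G), key a a.2⟩ ⟨(b : G), key b b.2⟩)
  have hKp : ¬ p ^ 2 ∣ Nat.card ↥((zpowers σ).comap ψD) := by
    intro hd
    have hle : ψD.ker ≤ (zpowers σ).comap ψD := fun k hk => by
      rw [mem_comap, show ψD k = 1 from hk]
      exact one_mem _
    have h1 : Nat.card ↥((zpowers σ).comap ψD) ∣ Nat.card ↥ψD.ker * 2 := by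
      refine card_dvd_two_mul hle fun c hc d hd hcN hdN => ?_
      rw [mem_comap, mem_zpowers_two h.sq] at hc hd
      rw [MonoidHom.mem_ker] at hcN hdN ⊢
      rw [map_mul, hc.resolve_left hcN, hd.resolve_left hdN, h.sq]
    have h2 : Nat.card ↥ψD.ker ∣ p := by
      have h3 : (ψD.ker).map (XTT x t).subtype ≤ zpowers x := by
        rintro _ ⟨k, hk, rfl⟩
        exact (hψD1 k).1 hk
      have h4 := card_dvd_of_le h3
      rw [Nat.card_zpowers, hx, Nat.card_congr (equivMapOfInjective _ _ (XTT x t).subtype_injective).toEquiv.symm] at h4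
      exact h4
    have h3 : p ^ 2 ∣ p * 2 := (hd.trans h1).trans (Nat.mul_dvd_mul_right h2 2)
    rw [pow_two] at h3
    have h4 := Nat.dvd_of_mul_dvd_mul_left hp.pos h3
    exact hp2 ((Nat.prime_dvd_prime_iff_eq hp Nat.prime_two).1 h4)
  refine rkOne_of_normal hp hp2 hNn hKn hKN hS hnc hpS (φ.comp (ψD.subgroupComap N)) ?_ ?_ hKs hKp ?_ g hg ?_
  · intro s
    obtain ⟨n, rfl⟩ := h.surj s
    obtain ⟨c, hc⟩ := hψ n
    have hct := hlift c (by rw [hc]; exact h.comm n n.2)
    have hcm : (c : G) ∈ XTT x t := mem_XTT.2 ⟨mem_centralizer_singleton_iff.1 c.2, hct⟩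
    have hψc : ψD ⟨c, hcm⟩ = n := hc
    refine ⟨⟨⟨c, hcm⟩, ?_⟩, ?_⟩
    · rw [mem_comap, hψc]; exact n.2
    · show φ (ψD.subgroupComap N ⟨⟨c, hcm⟩, _⟩) = φ n
      congr 1
      exact Subtype.ext hψc
  · intro n
    show φ (ψD.subgroupComap N n) = 1 ↔ (n : ↥(XTT x t)) ∈ (zpowers σ).comap ψD
    rw [h.ker, mem_comap, mem_zpowers_two h.sq]
    rfl
  · intro c d hc hd
    rw [mem_comap] at hc hd ⊢
    rw [map_mul]
    exact h.two _ _ (hψD c) (hψD d) hc hd
  · intro d hd
    rcases (hgk d).1 hd with h1 | h1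
    · have : d = 1 := Subtype.ext h1
      rw [this]; exact one_mem _
    · rw [mem_comap]
      have h2 : ψD d = σ := by
        show ψ _ = ψ _
        congr 1
        exact Subtype.ext h1
      rw [h2]; exact mem_zpowers σ

end Cfsg.Agent.PreUniqB

end

-- merged: Cfsg.Agent.PreUniqB.TwoClasses
section

/-!
# `RkT p x t` from the classes of involutions of `C(x) / ⟨x⟩` (helper20)

`x` of odd prime order `p` in `C(z)`, `C(x)/⟨x⟩ ≅ F`; every involution `τ` of `F` is `Pairish` (`C_F(τ) = 2.S`, index at most 2)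
or conjugate to `w0`. If `t` is not conjugate to `z` then `RkT p x t`.
-/

set_option autoImplicit false

namespace Cfsg.Agent.PreUniqB

open Cfsg Subgroup Cfsg.Agent.PreUniq Cfsg.Agent.LThreeMB Cfsg.Agent.MonsterU Cfsg.Agent.MonsterU.Ch
open Cfsg.Agent.MonsterU.Lam2 (L2)
open Cfsg.Spor (Co1)

universe u v

/-- `C_F(τ)` has the normal subgroup `2.S` of index at most 2, `S` simple of order divisible by `p`. -/
def Pairish (p : ℕ) {F : Type v} [Group F] (τ : F) : Prop :=
  ∃ (N : Subgroup F) (S : Type) (_ : Group S) (φ : ↥N →* S), IsSimpleGroup S ∧ (∃ a b : S, a * b ≠ b * a) ∧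
    p ∣ Nat.card S ∧ Two τ N φ

variable {p : ℕ} {G : Type u} [Group G] {Q : Subgroup G} {z : G} {eta : G → L2}
  {pi : Subgroup.centralizer ({z} : Set G) →* Co1}

/-- the image of `z` is not `Pairish` -/
theorem not_pairish [Finite G] (h : Chart Q z eta pi) (hp : p.Prime) (hp2 : p ≠ 2)
    {x : Subgroup.centralizer ({z} : Set G)} (hx : orderOf x = p) (hfr : ¬ fr (pi x) ∣ 2)
    (hfr2 : ∃ k, fr (pi x) = 2 ^ k) {F : Type v} [Group F] (e : XX (x : G) ≃* F) : ¬ Pairish p (e (tt x)) := by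
  rintro ⟨N, S, _, φ, hS, hnc, -, hT⟩
  have hF : Finite F := Finite.of_equiv _ e.toEquiv
  have ho : Odd p := hp.odd_of_ne_two hp2
  have hxp : x ^ p = 1 := by rw [← hx, pow_orderOf_eq_one]
  obtain ⟨ρ, -, -, hk⟩ := MFive.exists_rho h hp ho hxp
  have hcard := MFive.card_PB h ho hxp
  have hle : PB Q (x : G) ≤ centralizer ({tt x} : Set (XX (x : G))) := by
    intro u hu
    obtain ⟨g, hg, hgQ, rfl⟩ := mem_PB.1 hu
    have hxz : z * (x : G) = x * z := (mem_centralizer_singleton_iff.1 x.2).symm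
    rw [mem_centralizer_singleton_iff, tt, mk_mul hg hxz (by rw [mul_assoc, hxz, ← mul_assoc, hg, mul_assoc]),
      mk_mul hxz hg (by rw [mul_assoc, hg, ← mul_assoc, hxz, mul_assoc])]
    exact mk_congr _ _ (h.large.comm_z g hgQ)
  have hP : IsPGroup 2 ↥(PB Q (x : G)) := by
    obtain ⟨k, hk⟩ := hfr2
    rw [hk, ← pow_succ] at hcard
    exact IsPGroup.of_card hcard
  have hn : ∀ c : XX (x : G), c * tt x = tt x * c → ∀ q ∈ PB Q (x : G), c * q * c⁻¹ ∈ PB Q (x : G) := by
    intro c hc q hq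
    have h1 : ρ.ker.Normal := inferInstance
    rw [hk] at h1
    have h2 := h1.conj_mem ⟨q, hle hq⟩ (mem_subgroupOf.2 hq) ⟨c, mem_centralizer_singleton_iff.2 hc⟩
    exact mem_subgroupOf.1 h2
  have h4 := hT.card_le_four hS hnc (P := (PB Q (x : G)).map e.toMonoidHom) (hP.map _) (by
      rintro _ ⟨q, hq, rfl⟩
      show e q * e (tt x) = e (tt x) * e q
      rw [← map_mul, ← map_mul, mem_centralizer_singleton_iff.1 (hle hq)]) (by
      rintro c hc _ ⟨q, hq, rfl⟩
      obtain ⟨c, rfl⟩ := e.surjective c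
      rw [← map_mul, ← map_mul] at hc
      refine ⟨c * q * c⁻¹, hn c (e.injective hc) q hq, ?_⟩
      show e (c * q * c⁻¹) = e c * e q * (e c)⁻¹
      rw [map_mul, map_mul, map_inv])
  rw [Nat.card_congr (equivMapOfInjective _ _ e.injective).toEquiv.symm, hcard] at h4
  exact hfr (Nat.dvd_of_mul_dvd_mul_right (by norm_num : 0 < 2) h4)

/-- **`RkT` from the two kinds of involutions.** -/
theorem rkT_of_classes [Finite G] (h : Chart Q z eta pi) (hp : p.Prime) (hp2 : p ≠ 2)
    {x : Subgroup.centralizer ({z} : Set G)} (hx : orderOf x = p) (hfr : ¬ fr (pi x) ∣ 2)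
    (hfr2 : ∃ k, fr (pi x) = 2 ^ k) {F : Type v} [Group F] (e : XX (x : G) ≃* F) {w0 : F}
    (hcl : ∀ τ : F, orderOf τ = 2 → Pairish p τ ∨ IsConj τ w0) {t : G} (ht : orderOf t = 2)
    (hxt : (x : G) * t = t * x) (hnt : ∀ d : G, d * t * d⁻¹ ≠ z) : RkT p (x : G) t := by
  have ho : Odd p := hp.odd_of_ne_two hp2
  have hxo : orderOf (x : G) = p := by rw [Subgroup.orderOf_coe, hx]
  have hxp : (x : G) ^ p = 1 := by rw [← hxo, pow_orderOf_eq_one]
  have htt : t * t = 1 := by rw [← pow_two, ← ht, pow_orderOf_eq_one]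
  have ht1 : t ≠ 1 := by
    intro h1
    rw [h1, orderOf_one] at ht
    exact absurd ht (by norm_num)
  obtain ⟨m, hm⟩ := ho
  -- an involution commuting with `x` is not in `⟨x⟩`
  have hinv : ∀ s : G, s * s = 1 → s ≠ 1 → ∀ hs : s * (x : G) = x * s, orderOf (mk (x : G) hs) = 2 := by
    intro s hss hs1 hs
    have : Fact (Nat.Prime 2) := ⟨Nat.prime_two⟩
    apply orderOf_eq_prime
    · rw [pow_two, mk_mul hs hs (by rw [hss, one_mul, mul_one])]
      rw [mk_congr _ (by rw [one_mul, mul_one]) hss]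
      rfl
    · intro h1
      obtain ⟨i, hi⟩ := (mk_eq_one hs).1 h1
      apply hs1
      have h2 : s ^ p = 1 := by rw [← hi, ← zpow_natCast, ← zpow_mul, mul_comm, zpow_mul, zpow_natCast, hxp, one_zpow]
      rwa [hm, pow_succ, pow_mul, pow_two, hss, one_pow, one_mul] at h2
  rcases hcl (e (mk (x : G) hxt.symm)) (by rw [MulEquiv.orderOf_eq]; exact hinv t htt ht1 hxt.symm) with h1 | h1
  · obtain ⟨N, S, _, φ, hS, hnc, hpS, hT⟩ := h1
    refine rkT_of hp hp2 hxo ht hxt (e.toMonoidHom.comp (QuotientGroup.mk' (Zx (x : G))))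
      (e.surjective.comp (QuotientGroup.mk'_surjective _)) (fun c => ?_) hS hnc hpS hT
    show e (QuotientGroup.mk c) = 1 ↔ _
    rw [e.map_eq_one_iff]
    exact mk_eq_one (x := (x : G)) (g := (c : G)) (mem_centralizer_singleton_iff.1 c.2)
  · exfalso
    have hzz : z * z = 1 := h.large.z_sq
    have hzx : z * (x : G) = x * z := (mem_centralizer_singleton_iff.1 x.2).symm
    rcases hcl (e (tt x)) (by rw [MulEquiv.orderOf_eq]; exact hinv z hzz h.large.z_ne hzx) with h2 | h2
    · exact not_pairish h hp hp2 hx hfr hfr2 e h2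
    · obtain ⟨c, hc⟩ := isConj_iff.1 (h1.trans h2.symm)
      obtain ⟨c, rfl⟩ := e.surjective c
      rw [← map_mul, ← map_inv, ← map_mul] at hc
      obtain ⟨g, hg, rfl⟩ := exists_mk c
      have hc2 := e.injective hc
      have h3 : mk (x : G) (conj_comm hg hxt.symm) = mk (x : G) hzx := hc2
      obtain ⟨i, hi⟩ := (mk_eq_mk _ _).1 h3
      -- `g t g⁻¹ x^i = z`
      apply hnt g
      have hcx : Commute (g * t * g⁻¹) ((x : G) ^ i) :=
        (show Commute (g * t * g⁻¹) (x : G) from conj_comm hg hxt.symm).zpow_right i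
      have h4 : (g * t * g⁻¹ * (x : G) ^ i) ^ p = z ^ p := by rw [hi]
      have hpow : ∀ s : G, s * s = 1 → s ^ p = s := fun s hs => by
        rw [hm, pow_succ, pow_mul, pow_two, hs, one_pow, one_mul]
      have h5 : (g * t * g⁻¹) * (g * t * g⁻¹) = 1 := by
        calc (g * t * g⁻¹) * (g * t * g⁻¹) = g * (t * t) * g⁻¹ := by group
          _ = 1 := by rw [htt]; group
      rw [hcx.mul_pow, hpow _ h5, hpow _ hzz, ← zpow_natCast ((x : G) ^ i), ← zpow_mul, mul_comm i, zpow_mul, zpow_natCast,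
        hxp, one_zpow, mul_one] at h4
      exact h4

end Cfsg.Agent.PreUniqB

end

-- merged: Cfsg.Agent.PreUniqB.HNCase
section

/-!
# `RkT 5 x t`, `C(x)/⟨x⟩ ≅ HN`, `t` not conjugate to `z` (helper20)
-/

set_option autoImplicit false

namespace Cfsg.Agent.PreUniqB

open Cfsg Subgroup Cfsg.Agent.PreUniq

universe u v w

/-- transport of `Two` -/
theorem Two.map {F : Type v} {F' : Type u} [Group F] [Group F'] (e : F ≃* F') {σ : F} {N : Subgroup F} {S : Type w}
    [Group S] {φ : ↥N →* S} (h : Two σ N φ) :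
    Two (e σ) (N.map e.toMonoidHom)
      (φ.comp (N.equivMapOfInjective e.toMonoidHom e.injective).symm.toMonoidHom) where
  mem := ⟨σ, h.mem, rfl⟩
  comm := by
    rintro _ ⟨n, hn, rfl⟩
    show e n * e σ = e σ * e n
    rw [← map_mul, h.comm n hn, map_mul]
  norm := by
    rintro c hc _ ⟨n, hn, rfl⟩
    obtain ⟨c, rfl⟩ := e.surjective c
    rw [← map_mul, ← map_mul] at hc
    refine ⟨c * n * c⁻¹, h.norm c (e.injective hc) n hn, ?_⟩
    show e (c * n * c⁻¹) = e c * e n * (e c)⁻¹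
    rw [map_mul, map_mul, map_inv]
  two := by
    intro c d hc hd hcN hdN
    obtain ⟨c, rfl⟩ := e.surjective c
    obtain ⟨d, rfl⟩ := e.surjective d
    rw [← map_mul, ← map_mul] at hc hd
    refine ⟨c * d, h.two c d (e.injective hc) (e.injective hd) (fun h1 => hcN ⟨c, h1, rfl⟩)
      (fun h1 => hdN ⟨d, h1, rfl⟩), ?_⟩
    show e (c * d) = e c * e d
    rw [map_mul]
  surj := h.surj.comp (N.equivMapOfInjective e.toMonoidHom e.injective).symm.surjective
  ker := by
    intro n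
    obtain ⟨m, rfl⟩ := (N.equivMapOfInjective e.toMonoidHom e.injective).surjective n
    show φ ((N.equivMapOfInjective e.toMonoidHom e.injective).symm
      (N.equivMapOfInjective e.toMonoidHom e.injective m)) = 1 ↔ e (m : F) = 1 ∨ e (m : F) = e σ
    rw [MulEquiv.symm_apply_apply, h.ker, e.map_eq_one_iff, e.injective.eq_iff]

theorem Pairish.map {p : ℕ} {F : Type v} {F' : Type u} [Group F] [Group F'] (e : F ≃* F') {τ : F} (h : Pairish p τ) :
    Pairish p (e τ) := by
  obtain ⟨N, S, _, φ, hS, hnc, hpS, hT⟩ := h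
  exact ⟨_, S, inferInstance, _, hS, hnc, hpS, hT.map e⟩

section HN

open Cfsg.Agent.KFacts.HN Cfsg.Agent.HN.XWords Cfsg.Agent.HN.XStruct
open Cfsg.Agent.HN Cfsg.Agent.HN.Pres Cfsg.Agent.HN.P1408 Cfsg.Agent.HN.H0Basic

theorem ker_iff (g : HS100.K) : DoubleCover.φK g = 1 ↔ (g : H0) = 1 ∨ (g : H0) = gx ^ 2 := by
  constructor
  · intro h
    exact ker_cases (MonoidHom.mem_ker.2 h)
  · rintro (h | h)
    · have : g = 1 := Subtype.ext h
      rw [this, map_one]
    · apply Subtype.ext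
      rw [DoubleCover.φK_coe, h]
      change HS100.φ (gx ^ 2) = 1
      rw [map_pow, HS100.φ_gx, HS100.X_sq]

theorem Q0_eq' : Q 0 = NormalH.ψ (gx ^ 2) := Q0_eq

theorem eN_coe (k : HS100.K) : ((CTwoTab.HN.eN k : ↥CTwoTab.HN.N) : Cfsg.Spor.HN) = NormalH.ψ k := rfl

theorem two_hn : Two (Q 0) CTwoTab.HN.N (DoubleCover.φK.comp CTwoTab.HN.eN.symm.toMonoidHom) where
  mem := by
    rw [Q0_eq']
    exact ⟨_, HS100.K.pow_mem HS100.gx_mem 2, rfl⟩
  comm n hn := mem_centralizer_singleton_iff.1 (CTwoTab.HN.N_le hn)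
  norm := by
    rintro c hc _ ⟨k, hk, rfl⟩
    obtain ⟨u, rfl⟩ := mem_range_of_comm hc
    refine ⟨u * k * u⁻¹, HS100.K_normal.conj_mem k hk u, ?_⟩
    rw [map_mul, map_mul, map_inv]
  two := by
    intro c d hc hd hcN hdN
    obtain ⟨u, rfl⟩ := mem_range_of_comm hc
    obtain ⟨v, rfl⟩ := mem_range_of_comm hd
    refine ⟨u * v, ?_, map_mul _ _ _⟩
    have h1 : u ∉ HS100.K := fun h => hcN ⟨u, h, rfl⟩
    have h2 : v ∉ HS100.K := fun h => hdN ⟨v, h, rfl⟩
    exact (Subgroup.mul_mem_iff_of_index_two HS100.K_index).2 ⟨fun h => absurd h h1, fun h => absurd h h2⟩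
  surj := DoubleCover.φK_surj.comp CTwoTab.HN.eN.symm.surjective
  ker := by
    intro n
    obtain ⟨k, rfl⟩ := CTwoTab.HN.eN.surjective n
    show DoubleCover.φK (CTwoTab.HN.eN.symm (CTwoTab.HN.eN k)) = 1 ↔ _
    rw [MulEquiv.symm_apply_apply, ker_iff, eN_coe, Q0_eq', emb.inj.eq_iff, ← map_one NormalH.ψ, emb.inj.eq_iff]

theorem classes_hn (τ : Cfsg.Spor.HN) (hτ : orderOf τ = 2) : Pairish 5 τ ∨ IsConj τ W0 := by
  have h1 : τ * τ = 1 := by rw [← pow_two, ← hτ, pow_orderOf_eq_one]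
  have h2 : τ ≠ 1 := fun h => by rw [h, orderOf_one] at hτ; omega
  rcases OddHalf.D4.Spor.HN.inv_cases h1 h2 with ⟨g, hg⟩ | ⟨g, hg⟩
  · right
    exact (isConj_iff.2 ⟨g, hg⟩).symm
  · left
    have h3 : Pairish 5 (Q 0) := by
      obtain ⟨-, hs⟩ := DoubleCover.nonempty_Q card_H0 gx_sq_ne_one
      have hcQ := DoubleCover.card_Q card_H0 gx_sq_ne_one
      refine ⟨_, _, inferInstance, _, hs, ?_, ?_, two_hn⟩
      · by_contra hcon
        push Not at hcon
        have h4 : center ↥HS100.Q = ⊤ := by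
          rw [eq_top_iff]
          intro x _
          rw [mem_center_iff]
          exact fun g => hcon g x
        let _ : CommGroup ↥HS100.Q := Group.commGroupOfCenterEqTop h4
        have hf : Finite ↥HS100.Q := Nat.finite_of_card_ne_zero (by rw [hcQ]; norm_num)
        have hp := IsSimpleGroup.prime_card (α := ↥HS100.Q)
        rw [hcQ] at hp
        exact absurd hp (by norm_num)
      · rw [hcQ]; norm_num
    have h4 := h3.map (MulAut.conj g)
    rw [MulAut.conj_apply, hg] at h4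
    exact h4

end HN

open Cfsg.Agent.LThreeMB Cfsg.Agent.MonsterU Cfsg.Agent.MonsterU.Ch
open Cfsg.Agent.MonsterU.Lam2 (L2)
open Cfsg.Spor (Co1)

variable {G : Type u} [Group G] {Q : Subgroup G} {z : G} {eta : G → L2}
  {pi : Subgroup.centralizer ({z} : Set G) →* Co1}

/-- **`C(x)/⟨x⟩ ≅ HN`.** -/
theorem rkT_hn [Finite G] (h : Chart Q z eta pi) {x : Subgroup.centralizer ({z} : Set G)} (hx : orderOf x = 5)
    (hfr : fr (pi x) = 2 ^ 8) (hHN : Spor.IsoHN (XX (x : G))) {t : G}
    (ht : orderOf t = 2) (hxt : (x : G) * t = t * x) (hnt : ∀ d : G, d * t * d⁻¹ ≠ z) : RkT 5 (x : G) t := by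
  obtain ⟨e⟩ := hHN
  exact rkT_of_classes h Nat.prime_five (by norm_num) hx (by rw [hfr]; norm_num) ⟨8, hfr⟩ e classes_hn ht hxt hnt

end Cfsg.Agent.PreUniqB

end

private theorem dce_5628e49e556b : _root_.True := by
  try have : _root_.True := by simp only [_root_.Cfsg.Agent.PreUniqB.actKer.eq_1]
  exact _root_.True.intro
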