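import Cfsg.Agent.CpAutBFive.Up_m3
import Cfsg.Agent.CoFive.Dims
import Cfsg.Agent.CoFive.Ranks
import Cfsg.Agent.LThreeCo1.Ranks
import Cfsg.Agent.H898.RowCo0
import Cfsg.Agent.PreUniqB.HNCase
import Cfsg.Agent.LThreeMB.ZStar
import Cfsg.Agent.PreUniq.MonGen
import Cfsg.Agent.PreUniqB.Lift
import Cfsg.Agent.LThreeBX.Main
import Cfsg.Agent.KFacts.SuzLarge
import Cfsg.Agent.LThreeB.FromM
import Cfsg.Agent.MFive.Row
import Cfsg.Agent.CpAutBFive.RowB
import Cfsg.Agent.LThreeM.FiRow_mg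
import Cfsg.Agent.LThreeB.Row
import Cfsg.Agent.LThreeMB.COct
import Cfsg.Agent.PreUniq.Transport
import Cfsg.Agent.OddHalf.D4.Spor.JTwo
import Cfsg.Agent.MFiveHN.Closed
import Cfsg.Agent.FastGrp
import Cfsg.Agent.Prune
set_option linter.all false
prune_inst 0x7ffefffbaff8bddeffff7e7ffffddffdfbf8dfffefdff9fbffe9ebff6fdf2367afe5fbafede4dafedef7e21c90b87853fb7eceffe26bdc7ffffd5ff45ffbee5ff7ffbf0871d69c3e1fbe2ffff3f37fafff3fffffffffffffffffffffffffffffffffffffffff
open scoped Cfsg.Agent.FastGrp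

-- part: PreUniqB/FiveFix
section
-- merged: Cfsg.Agent.PreUniqB.RegFour
section

/-!
# The element `r4` of order five and fixed rank 4 of `Co0` is regular (helper83)

`reg_r4 : Reg5 r4` : three lattice vectors whose norms are independent modulo `5 Λ` (kernel check of nine products).
-/

set_option autoImplicit false
set_option maxRecDepth 20000

namespace Cfsg.Agent.PreUniqB.RegFour

open Cfsg Cfsg.Agent.SporadicA Cfsg.Agent.SporadicStructure.Co0Matrix Cfsg.Agent.CoOneType.CoEval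
open Cfsg.Agent.MonsterU.Lam2
open Cfsg.Agent.CoFive.Rel Cfsg.Agent.CoFive.Class Cfsg.Agent.CoFiveFour.Ker Cfsg.Agent.PreUniqCo.LatCo

/-- the vectors -/
def u1 : List ℤ := [4, 4, 0, 0, 0, 0, 0, 0, 0, 0, 0, 0, 0, 0, 0, 0, 0, 0, 0, 0, 0, 0, 0, 0]
def u2 : List ℤ := [4, 0, 0, 4, 0, 0, 0, 0, 0, 0, 0, 0, 0, 0, 0, 0, 0, 0, 0, 0, 0, 0, 0, 0]
def u3 : List ℤ := [4, 0, 0, 0, 0, 0, 0, 0, 0, 0, 4, 0, 0, 0, 0, 0, 0, 0, 0, 0, 0, 0, 0, 0]

theorem ok1 : leechB u1 = true := by decide +kernel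
theorem ok2 : leechB u2 = true := by decide +kernel
theorem ok3 : leechB u3 = true := by decide +kernel

/-- the product with the norm -/
def prd (w : List ℕ) (l m : List ℤ) : ℤ :=
  dotL l m + dotL (fold M w l) m + dotL (fold M w (fold M w l)) m +
    dotL (fold M w (fold M w (fold M w l))) m + dotL (fold M w (fold M w (fold M w (fold M w l)))) m

theorem prd_spec (w : List ℕ) {l m : List ℤ} (hl24 : l.length ≤ 24)
    {v u : leechLattice} (hv : (v : GolayPt → ℤ) = _root_.Cfsg.Agent.SporadicStructure.Co0Matrix.vec l) (hu : (u : GolayPt → ℤ) = _root_.Cfsg.Agent.SporadicStructure.Co0Matrix.vec m) :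
    dotInt ((Nm (w.map e).prod v : leechLattice) : GolayPt → ℤ) (u : GolayPt → ℤ) = prd w l m := by
  obtain ⟨s1, s2⟩ := fold_spec rep w hl24 hv
  obtain ⟨s3, s4⟩ := fold_spec rep w s1 s2
  obtain ⟨s5, s6⟩ := fold_spec rep w s3 s4
  obtain ⟨s7, s8⟩ := fold_spec rep w s5 s6
  rw [Nm_expand, AddSubgroup.coe_add, AddSubgroup.coe_add, AddSubgroup.coe_add, AddSubgroup.coe_add,
    Cfsg.Agent.Leech.Basic.dotInt_add_left, Cfsg.Agent.Leech.Basic.dotInt_add_left,
    Cfsg.Agent.Leech.Basic.dotInt_add_left, Cfsg.Agent.Leech.Basic.dotInt_add_left, prd,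
    ← dotInt_vec l m hl24, ← dotInt_vec _ m s1, ← dotInt_vec _ m s3, ← dotInt_vec _ m s5, ← dotInt_vec _ m s7,
    ← hu, ← hv, ← s2, ← s4, ← s6, ← s8]
  rfl

theorem checks : (prd [1] u1 u1 % 40 = 16 ∧ prd [1] u1 u2 % 40 = 0 ∧ prd [1] u1 u3 % 40 = 0) ∧
    (prd [1] u2 u1 % 40 = 0 ∧ prd [1] u2 u2 % 40 = 32 ∧ prd [1] u2 u3 % 40 = 0) ∧
    (prd [1] u3 u1 % 40 = 0 ∧ prd [1] u3 u2 % 40 = 0 ∧ prd [1] u3 u3 % 40 = 16) := by decide +kernel

theorem B_zsmul (n : ℤ) (z u : leechLattice) : B (n • z) u = n * B z u := by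
  let f : leechLattice →+ ℤ := { toFun := fun z => B z u, map_zero' := by
                                    have := B_add 0 0 u
                                    rw [add_zero] at this
                                    omega
                                 map_add' := fun a b => B_add a b u }
  have h := map_zsmul f n z
  rw [smul_eq_mul] at h
  exact h

theorem reg_w : Reg5 (([1] : List ℕ).map e).prod := by
  set g : Co0 := (([1] : List ℕ).map e).prod with hg
  let v1 : leechLattice := ⟨_root_.Cfsg.Agent.SporadicStructure.Co0Matrix.vec u1, vec_mem_of_leechB ok1⟩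
  let v2 : leechLattice := ⟨_root_.Cfsg.Agent.SporadicStructure.Co0Matrix.vec u2, vec_mem_of_leechB ok2⟩
  let v3 : leechLattice := ⟨_root_.Cfsg.Agent.SporadicStructure.Co0Matrix.vec u3, vec_mem_of_leechB ok3⟩
  refine ⟨![v1, v2, v3], fun c => ?_⟩
  rintro ⟨μ, hμ⟩
  have hμ' : c 0 • Nm g v1 + c 1 • Nm g v2 + c 2 • Nm g v3 = (5 : ℤ) • μ := by
    rw [← hμ, Fin.sum_univ_three]
    rfl
  have d : ∀ u : leechLattice, c 0 * dotInt ((Nm g v1 : leechLattice) : GolayPt → ℤ) (u : GolayPt → ℤ) +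
      c 1 * dotInt ((Nm g v2 : leechLattice) : GolayPt → ℤ) (u : GolayPt → ℤ) +
      c 2 * dotInt ((Nm g v3 : leechLattice) : GolayPt → ℤ) (u : GolayPt → ℤ) = 40 * B μ u := by
    intro u
    have h1 : B (c 0 • Nm g v1 + c 1 • Nm g v2 + c 2 • Nm g v3) u = B ((5 : ℤ) • μ) u := by rw [hμ']
    rw [B_add, B_add, B_zsmul, B_zsmul, B_zsmul, B_zsmul] at h1
    rw [← eight_B, ← eight_B, ← eight_B]
    linarith only [h1]
  have e1 := d v1
  have e2 := d v2
  have e3 := d v3
  rw [prd_spec [1] (by decide) rfl rfl, prd_spec [1] (by decide) rfl rfl, prd_spec [1] (by decide) rfl rfl] at e1 e2 e3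
  obtain ⟨⟨c11, c12, c13⟩, ⟨c21, c22, c23⟩, ⟨c31, c32, c33⟩⟩ := checks
  have a11 := Int.emod_add_mul_ediv (prd [1] u1 u1) 40
  have a12 := Int.emod_add_mul_ediv (prd [1] u1 u2) 40
  have a13 := Int.emod_add_mul_ediv (prd [1] u1 u3) 40
  have a21 := Int.emod_add_mul_ediv (prd [1] u2 u1) 40
  have a22 := Int.emod_add_mul_ediv (prd [1] u2 u2) 40
  have a23 := Int.emod_add_mul_ediv (prd [1] u2 u3) 40
  have a31 := Int.emod_add_mul_ediv (prd [1] u3 u1) 40
  have a32 := Int.emod_add_mul_ediv (prd [1] u3 u2) 40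
  have a33 := Int.emod_add_mul_ediv (prd [1] u3 u3) 40
  rw [c11] at a11
  rw [c12] at a12
  rw [c13] at a13
  rw [c21] at a21
  rw [c22] at a22
  rw [c23] at a23
  rw [c31] at a31
  rw [c32] at a32
  rw [c33] at a33
  generalize prd [1] u1 u1 / 40 = k11 at *
  generalize prd [1] u1 u2 / 40 = k12 at *
  generalize prd [1] u1 u3 / 40 = k13 at *
  generalize prd [1] u2 u1 / 40 = k21 at *
  generalize prd [1] u2 u2 / 40 = k22 at *
  generalize prd [1] u2 u3 / 40 = k23 at *
  generalize prd [1] u3 u1 / 40 = k31 at *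
  generalize prd [1] u3 u2 / 40 = k32 at *
  generalize prd [1] u3 u3 / 40 = k33 at *
  rw [← a11, ← a21, ← a31] at e1
  rw [← a12, ← a22, ← a32] at e2
  rw [← a13, ← a23, ← a33] at e3
  have f1 : 40 * (c 0 * k11 + c 1 * k21 + c 2 * k31 - B μ v1) = -(16 * c 0) := by linarith only [e1]
  have f2 : 40 * (c 0 * k12 + c 1 * k22 + c 2 * k32 - B μ v2) = -(32 * c 1) := by linarith only [e2]
  have f3 : 40 * (c 0 * k13 + c 1 * k23 + c 2 * k33 - B μ v3) = -(16 * c 2) := by linarith only [e3]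
  generalize c 0 * k11 + c 1 * k21 + c 2 * k31 - B μ v1 = g1 at f1
  generalize c 0 * k12 + c 1 * k22 + c 2 * k32 - B μ v2 = g2 at f2
  generalize c 0 * k13 + c 1 * k23 + c 2 * k33 - B μ v3 = g3 at f3
  intro i
  fin_cases i
  · show (5 : ℤ) ∣ c 0
    (clear * - f1; omega)
  · show (5 : ℤ) ∣ c 1
    (clear * - f2; omega)
  · show (5 : ℤ) ∣ c 2
    (clear * - f3; omega)

/-- **`r4` is regular.** -/
theorem reg_r4 : Reg5 r4 := by
  have h := reg_w
  rwa [w1] at h

end Cfsg.Agent.PreUniqB.RegFour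

end

-- merged: Cfsg.Agent.PreUniqB.FiveFix
section

/-!
# Elements of order three trivial on the fixed space of an element of order five (helper83, for helper19)

* `fix_le_of_mod_two` : `a b = b a`, `b ^ 3 = 1`, `b` trivial on the fixed space of `a` in `Λ / 2Λ`: `b` is trivial on
  the fixed space of `a` in `Λ ⊗ ℚ`;
* `five_fix` : `s` of order five, `y` of order three, `s y = y s`, `y` trivial on the fixed space of `s` in `Λ / 2Λ`:
  the fixed rank of `s` is not 4.
-/

set_option autoImplicit false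

namespace Cfsg.Agent.PreUniqB.FiveFix

open Cfsg Cfsg.Agent.SporadicA Cfsg.Agent.MonsterU.Lam2 Cfsg.Agent.PreUniqCo.FixBound
open Cfsg.Agent.PreUniqCo.LatCo (norm_pos)
open Cfsg.Agent.SigZeroCo2.Rank (fix mem_fix)
open Cfsg.Agent.LThreeMB (fr)
open Cfsg.Spor (Co1)
open Module (finrank)

theorem two_inj {x y : leechLattice} (h : 2 • x = 2 • y) : x = y := by
  apply Subtype.ext
  funext p
  have h1 := congrFun (congrArg Subtype.val h) p
  rw [AddSubgroup.coe_nsmul, AddSubgroup.coe_nsmul, Pi.smul_apply, Pi.smul_apply, nsmul_eq_mul, nsmul_eq_mul] at h1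
  push_cast at h1
  linarith

theorem sqNorm_two (w : leechLattice) :
    sqNorm ((2 • w : leechLattice) : GolayPt → ℤ) = 4 * sqNorm (w : GolayPt → ℤ) := by
  unfold sqNorm
  rw [Finset.mul_sum]
  refine Finset.sum_congr rfl fun i _ => ?_
  rw [AddSubgroup.coe_nsmul, Pi.smul_apply, nsmul_eq_mul]
  push_cast
  ring

variable {a b : Co0}

theorem smul_add' (g : Co0) (v w : leechLattice) : g • (v + w) = g • v + g • w := (smulHom g).map_add v w
theorem smul_sub' (g : Co0) (v w : leechLattice) : g • (v - w) = g • v - g • w := (smulHom g).map_sub v w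
/-- the descent -/
theorem descent (hfix : ∀ v : L2, (QuotientGroup.mk a : Co1) • v = v → (QuotientGroup.mk b : Co1) • v = v) :
    ∀ (n : ℕ) (w : leechLattice), a • w = w → w + b • w + b • (b • w) = 0 → w ≠ 0 →
      32 * 4 ^ n ≤ sqNorm (w : GolayPt → ℤ) := by
  intro n
  induction n with
  | zero =>
    intro w _ _ hw
    rw [pow_zero, mul_one]
    exact norm_pos hw
  | succ n ih =>
    intro w haw hbw hw
    have h1 : (QuotientGroup.mk a : Co1) • cl w = cl w := by rw [mk_smul, smul_cl, haw]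
    have h2 := hfix _ h1
    rw [mk_smul, smul_cl, cl_eq] at h2
    obtain ⟨u, hu⟩ := h2
    have hb1 : b • w = w + 2 • u := by rw [← hu]; abel
    have hb2 : b • (b • w) = w + 2 • u + 2 • (b • u) := by
      rw [hb1, smul_add', hb1, smul_two]
    have e : w = 2 • (-(w + 2 • u + b • u)) := by
      rw [hb2, hb1] at hbw
      have h3 : w - 2 • (-(w + 2 • u + b • u)) = w + (w + 2 • u) + (w + 2 • u + 2 • (b • u)) := by
        generalize b • u = c
        abel
      exact sub_eq_zero.1 (h3.trans hbw)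
    set w' : leechLattice := -(w + 2 • u + b • u) with hw'
    have ha' : a • w' = w' := by
      apply two_inj
      rw [← smul_two, ← e, haw]
    have hb' : w' + b • w' + b • (b • w') = 0 := by
      apply two_inj
      have h3 : 2 • (w' + b • w' + b • (b • w')) = w + b • w + b • (b • w) := by
        rw [smul_add, smul_add, ← smul_two, ← smul_two b (b • w'), ← smul_two b w', ← e]
      rw [h3, hbw, smul_zero]
    have hne : w' ≠ 0 := by
      intro h0
      apply hw
      rw [e, h0, smul_zero]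
    have h4 := ih w' ha' hb' hne
    rw [e, sqNorm_two, pow_succ]
    linarith

theorem fix_of_mod_two (hab : a * b = b * a) (hb : b ^ 3 = 1)
    (hfix : ∀ v : L2, (QuotientGroup.mk a : Co1) • v = v → (QuotientGroup.mk b : Co1) • v = v) {l : leechLattice}
    (hl : a • l = l) : b • l = l := by
  by_contra hne
  have h3 : b • (b • (b • l)) = l := by
    rw [← mul_smul, ← mul_smul]
    have : b * b * b = 1 := by rw [← hb, pow_succ, pow_two]
    rw [this, one_smul]
  have h0 : b • l - l ≠ 0 := fun h => hne (sub_eq_zero.1 h)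
  have h1 : a • (b • l - l) = b • l - l := by
    rw [smul_sub', ← mul_smul, hab, mul_smul, hl]
  have h2 : (b • l - l) + b • (b • l - l) + b • (b • (b • l - l)) = 0 := by
    simp only [smul_sub', h3]
    abel
  have h4 := descent hfix (sqNorm ((b • l - l : leechLattice) : GolayPt → ℤ)).toNat _ h1 h2 h0
  set N := sqNorm ((b • l - l : leechLattice) : GolayPt → ℤ) with hN
  have h5 : 0 < N := lt_of_lt_of_le (by norm_num) (norm_pos h0)
  have h6 : (N.toNat : ℤ) = N := Int.toNat_of_nonneg h5.le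
  have h7 : N.toNat < 4 ^ N.toNat := Nat.lt_pow_self (by norm_num)
  have h8 : (N.toNat : ℤ) < 4 ^ N.toNat := by exact_mod_cast h7
  rw [h6] at h8
  linarith

/-- **Trivial modulo 2.** -/
theorem fix_le_of_mod_two (hab : a * b = b * a) (hb : b ^ 3 = 1)
    (hfix : ∀ v : L2, (QuotientGroup.mk a : Co1) • v = v → (QuotientGroup.mk b : Co1) • v = v) :
    fix (Cfsg.Agent.SigZeroCo2.Lin.rep a) ≤ fix (Cfsg.Agent.SigZeroCo2.Lin.rep b) := by
  intro v hv
  obtain ⟨m, hm, l, hl⟩ := exists_mul v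
  have h1 : tau l ∈ fix (Cfsg.Agent.SigZeroCo2.Lin.rep a) := by
    rw [hl]
    exact Submodule.smul_mem _ _ hv
  have h2 : tau l ∈ fix (Cfsg.Agent.SigZeroCo2.Lin.rep b) :=
    mem_fix_tau.2 (fix_of_mod_two hab hb hfix (mem_fix_tau.1 h1))
  have hm' : (m : ℚ) ≠ 0 := by exact_mod_cast hm
  have h3 : v = (m : ℚ)⁻¹ • tau l := by rw [hl, smul_smul, inv_mul_cancel₀ hm', one_smul]
  rw [h3]
  exact Submodule.smul_mem _ _ h2

/-- commuting lifts -/
theorem comm_of_mk (hb : b ^ 3 = 1)
    (h : (QuotientGroup.mk a : Co1) * QuotientGroup.mk b = QuotientGroup.mk b * QuotientGroup.mk a) :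
    a * b = b * a := by
  have hcc : a * b * a⁻¹ * b⁻¹ ∈ Subgroup.center Co0 := by
    rw [← QuotientGroup.eq_one_iff]
    show (QuotientGroup.mk a : Co1) * QuotientGroup.mk b * (QuotientGroup.mk a)⁻¹ * (QuotientGroup.mk b)⁻¹ = 1
    rw [h]; group
  have h2 := CoFive.Ranks.sq_of_center hcc
  generalize hc : a * b * a⁻¹ * b⁻¹ = c at hcc h2
  have h3 : a * b * a⁻¹ = c * b := by rw [← hc]; group
  have h4 : (c * b) ^ 3 = 1 := by rw [← h3, conj_pow, hb]; group
  have h5 : Commute c b := (Subgroup.mem_center_iff.1 hcc b).symm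
  rw [h5.mul_pow, hb, mul_one] at h4
  have h6 : c = 1 := by
    calc c = c ^ 3 * (c ^ 2)⁻¹ := by group
      _ = 1 := by rw [h4, h2]; group
  rw [h6, mul_inv_eq_one, mul_inv_eq_iff_eq_mul] at hc
  exact hc

/-- **`five_fix`.** -/
theorem five_fix (s y : Co1) (hs : orderOf s = 5) (hy : orderOf y = 3) (hsy : s * y = y * s)
    (hfix : ∀ v : L2, s • v = v → y • v = v) : fr s ≠ 2 ^ 4 := by
  intro hfr
  obtain ⟨a, ha, rfl⟩ := CoFive.Ranks.exists_lift hs
  obtain ⟨b, hb, rfl⟩ := LThreeCo1.Ranks.exists_lift hy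
  have hb3 : b ^ 3 = 1 := by rw [← hb, pow_orderOf_eq_one]
  have ha5 : a ^ 5 = 1 := by rw [← ha, pow_orderOf_eq_one]
  have hab := comm_of_mk hb3 hsy
  obtain ⟨hc, hd⟩ : IsConj a CoFive.Class.r4 ∧ finrank ℚ (fix (Cfsg.Agent.SigZeroCo2.Lin.rep a)) = 4 := by
    rcases CoFive.Dims.dims ha with ⟨h, -⟩ | h | ⟨h, -⟩
    · exfalso
      rw [CoFive.Ranks.fr_of_isConj (CoFive.Ranks.isConj_mk h), CoFive.Ranks.fr_r8] at hfr
      norm_num at hfr
    · exact h
    · exfalso
      rw [CoFive.Ranks.fr_of_isConj (CoFive.Ranks.isConj_mk h), CoFive.Ranks.fr_r0] at hfr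
      norm_num at hfr
  obtain ⟨g, hg⟩ := isConj_iff.1 hc.symm
  have hreg : CoFiveFour.Ker.Reg5 a := by
    rw [← hg]
    exact RegFour.reg_r4.conj g
  exact CoFiveFour.Ker.not_three PreUniqCo.Facts.facts ha5 hd hreg hab hb (fix_le_of_mod_two hab hb3 hfix)

end Cfsg.Agent.PreUniqB.FiveFix

end
end

-- part: PreUniqB/ModelFive
section
-- merged: Cfsg.Agent.PreUniqB.Zero
section

/-!
# Fixed rank 0: abstract part (helper19)

`D` finite, `z` an isolated involution of `D`, `t ≠ z` an involution commuting with `z`, `u = z t`.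

* `rkOne_of_cover` : the quotient of `C_D(t)` by `{1, t}` satisfies `RkOne p` if `C_D(z) ∩ C_D(t)` has a simple quotient with
  solvable kernel `K`, `p² ∤ |K|`, and `u` lies in all normal subgroups covering the quotient;
* `comm_of_isolated` : `w z = z w` if `(w z w⁻¹ z) ^ 4 = 1`;
* `mem_of_radical` : the condition on `u`, from a normal 2-subgroup `R` of `C_D(u)` with centre `{1, u}`.
-/

set_option autoImplicit false

namespace Cfsg.Agent.PreUniqB

open Cfsg Subgroup Cfsg.Agent.PreUniq Cfsg.Agent.SignalizersComponents.Components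

universe u v w

section

variable {D : Type u} [Group D] {z : D}

/-- `C_D(z) ∩ C_D(t)` -/
abbrev TZ (t : ↥(centralizer ({z} : Set D))) : Subgroup ↥(centralizer ({z} : Set D)) :=
  centralizer ({t} : Set ↥(centralizer ({z} : Set D)))

theorem TZ_z {t : ↥(centralizer ({z} : Set D))} (g : ↥(TZ t)) :
    (((g : ↥(centralizer ({z} : Set D))) : D)) * z = z * ((g : ↥(centralizer ({z} : Set D))) : D) :=
  mem_centralizer_singleton_iff.1 g.1.2

theorem TZ_t {t : ↥(centralizer ({z} : Set D))} (g : ↥(TZ t)) :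
    (((g : ↥(centralizer ({z} : Set D))) : D)) * t = t * ((g : ↥(centralizer ({z} : Set D))) : D) :=
  congrArg Subtype.val (mem_centralizer_singleton_iff.1 g.2)

/-- an element of `C_D(z) ∩ C_D(t)` -/
def mkTZ (t : ↥(centralizer ({z} : Set D))) {g : D} (hz : g * z = z * g) (ht : g * t = t * g) : ↥(TZ t) :=
  ⟨⟨g, mem_centralizer_singleton_iff.2 hz⟩, mem_centralizer_singleton_iff.2 (Subtype.ext ht)⟩

/-- **The quotient of `C_D(t)` by `{1, t}`.** -/
theorem rkOne_of_cover [Finite D] (FT : ∀ (K : Type u) [Group K] [Finite K], Odd (Nat.card K) → Group.IsSolvable K)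
    {p : ℕ} (hp : p.Prime) (hp2 : p ≠ 2) (hz : orderOf z = 2)
    (hiso : ∀ d : D, (d * z * d⁻¹) * z = z * (d * z * d⁻¹) → d * z * d⁻¹ = z)
    {t : ↥(centralizer ({z} : Set D))} {S : Type v} [Group S] (hS : IsSimpleGroup S)
    (hnc : ∃ a b : S, a * b ≠ b * a) (hpS : p ∣ Nat.card S) (F : ↥(TZ t) →* S) (hF : Function.Surjective F)
    (hFs : Group.IsSolvable ↥F.ker) (hFc : ¬ p ^ 2 ∣ Nat.card ↥F.ker)
    (hFt : ∀ g : ↥(TZ t), ((g : ↥(centralizer ({z} : Set D))) : D) = t → F g = 1)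
    (hu : ∀ N : Subgroup ↥(TZ t), N.Normal → N.map F = ⊤ → ∃ g ∈ N, ((g : ↥(centralizer ({z} : Set D))) : D) = z * t)
    {Y : Type u} [Group Y] [Finite Y] (f : ↥(centralizer ({(t : D)} : Set D)) →* Y) (hf : Function.Surjective f)
    (hk : ∀ c : ↥(centralizer ({(t : D)} : Set D)), f c = 1 ↔ (c : D) = 1 ∨ (c : D) = t) : RkOne p Y := by
  have hzz : z * z = 1 := by rw [← pow_two, ← hz, pow_orderOf_eq_one]
  have htz : (t : D) * z = z * t := mem_centralizer_singleton_iff.1 t.2
  let zH : ↥(centralizer ({(t : D)} : Set D)) := ⟨z, mem_centralizer_singleton_iff.2 htz.symm⟩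
  let tH : ↥(centralizer ({(t : D)} : Set D)) := ⟨t, mem_centralizer_singleton_iff.2 rfl⟩
  have hft : f tH = 1 := (hk tH).2 (Or.inr rfl)
  have hzH : orderOf zH = 2 := by rw [← Subgroup.orderOf_coe]; exact hz
  obtain ⟨N, hN, hNo, hsup⟩ := LThreeMB.ZStar.exists_core hzH (fun d hd => Subtype.ext (hiso d (congrArg Subtype.val hd)))
  -- the image of `z`
  set zY : Y := f zH with hzY
  have hNY : (N.map f).Normal := hN.map f hf
  have hNYo : Odd (Nat.card ↥(N.map f)) := by
    have h1 : Nat.card ↥(N.map f) ∣ Nat.card ↥N := Subgroup.card_map_dvd N f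
    exact hNo.of_dvd_nat h1
  -- `C_Y(z) = f (C(t) ∩ C(z))`
  let g : ↥(TZ t) →* ↥(centralizer ({zY} : Set Y)) :=
    { toFun := fun c => ⟨f ⟨c.1.1, mem_centralizer_singleton_iff.2 (TZ_t c)⟩, mem_centralizer_singleton_iff.2 (by
        rw [hzY, ← map_mul, ← map_mul]
        congr 1
        exact Subtype.ext (TZ_z c))⟩
      map_one' := Subtype.ext (map_one f)
      map_mul' := fun a b => Subtype.ext (map_mul f ⟨a.1.1, mem_centralizer_singleton_iff.2 (TZ_t a)⟩
        ⟨b.1.1, mem_centralizer_singleton_iff.2 (TZ_t b)⟩) }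
  have hg : Function.Surjective g := by
    rintro ⟨y, hy⟩
    obtain ⟨c, rfl⟩ := hf y
    have h1 : f (c * zH * c⁻¹ * zH⁻¹) = 1 := by
      have h2 := mem_centralizer_singleton_iff.1 hy
      rw [hzY] at h2
      rw [map_mul, map_mul, map_mul, map_inv, map_inv, h2, mul_inv_cancel_right, mul_inv_cancel]
    have hct : (c : D) * t = t * c := mem_centralizer_singleton_iff.1 c.2
    have hcz : (c : D) * z = z * c := by
      rcases (hk _).1 h1 with h2 | h2
      · have h3 : (c : D) * z * (c : D)⁻¹ * z⁻¹ = 1 := h2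
        rwa [mul_inv_eq_one, mul_inv_eq_iff_eq_mul] at h3
      · have h3 : (c : D) * z * (c : D)⁻¹ * z⁻¹ = t := h2
        have h4 : (c : D) * z * (c : D)⁻¹ = t * z := by
          calc (c : D) * z * (c : D)⁻¹ = ((c : D) * z * (c : D)⁻¹ * z⁻¹) * z := by group
            _ = t * z := by rw [h3]
        have h5 := hiso c (by rw [h4, ← mul_assoc, htz])
        exact mul_inv_eq_iff_eq_mul.1 h5
    exact ⟨mkTZ t hcz hct, rfl⟩
  have hgk : ∀ c : ↥(TZ t), g c = 1 → F c = 1 := by
    intro c hc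
    have h1 : f ⟨c.1.1, mem_centralizer_singleton_iff.2 (TZ_t c)⟩ = 1 := congrArg Subtype.val hc
    rcases (hk _).1 h1 with h2 | h2
    · have h3 : c = 1 := Subtype.ext (Subtype.ext h2)
      rw [h3, map_one]
    · exact hFt c h2
  obtain ⟨F', hF'⟩ := LThreeMB.exists_fac g hg F hgk
  have hF's : Function.Surjective F' := by
    intro s
    obtain ⟨c, rfl⟩ := hF s
    exact ⟨g c, hF' c⟩
  -- the kernel of `F'`
  have hker : F'.ker = F.ker.map g := by
    ext y
    obtain ⟨c, rfl⟩ := hg y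
    rw [MonoidHom.mem_ker, hF']
    constructor
    · intro h1
      exact ⟨c, h1, rfl⟩
    · rintro ⟨d, hd, hd2⟩
      have h1 : g (d⁻¹ * c) = 1 := by rw [map_mul, map_inv, hd2, inv_mul_cancel]
      have h2 := hgk _ h1
      rw [map_mul, map_inv, MonoidHom.mem_ker.1 hd, inv_one, one_mul] at h2
      exact h2
  have hF'k : Group.IsSolvable ↥F'.ker := by
    rw [hker]
    exact Group.isSolvable_of_surjective (f := g.subgroupMap F.ker) (MonoidHom.subgroupMap_surjective _ _)
  have hF'c : ¬ p ^ 2 ∣ Nat.card ↥F'.ker := by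
    rw [hker]
    exact fun h => hFc (h.trans (card_map_dvd _ _))
  refine RkOne.of_isolated FT hp (z := zY) ?_ hNY hNYo ?_ ?_
  · rw [hzY, ← map_mul]
    have : zH * zH = 1 := Subtype.ext hzz
    rw [this, map_one]
  · rw [eq_top_iff]
    intro y _
    obtain ⟨c, rfl⟩ := hf y
    have h1 : c ∈ N ⊔ centralizer ({zH} : Set ↥(centralizer ({(t : D)} : Set D))) := by rw [hsup]; exact mem_top c
    obtain ⟨n, hn, d, hd, rfl⟩ := mem_sup_of_normal_left.1 h1
    rw [map_mul]
    refine mul_mem (mem_sup_left ⟨n, hn, rfl⟩) (mem_sup_right ?_)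
    rw [mem_centralizer_singleton_iff, hzY, ← map_mul, ← map_mul, mem_centralizer_singleton_iff.1 hd]
  · refine of_residual hp hp2 F' hF's hF'k hF'c hS hnc hpS ?_ ?_ ?_
    · apply Subtype.ext
      show zY * zY = 1
      rw [hzY, ← map_mul]
      have : zH * zH = 1 := Subtype.ext hzz
      rw [this, map_one]
    · rw [mem_center_iff]
      rintro ⟨y, hy⟩
      exact Subtype.ext (mem_centralizer_singleton_iff.1 hy)
    · intro M hM hMF
      have h1 : (M.comap g).Normal := hM.comap g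
      have h2 : (M.comap g).map F = ⊤ := by
        rw [eq_top_iff]
        intro s _
        have hs : s ∈ M.map F' := by rw [hMF]; exact mem_top s
        obtain ⟨y, hy, rfl⟩ := hs
        obtain ⟨c, rfl⟩ := hg y
        exact ⟨c, hy, (hF' c).symm⟩
      obtain ⟨c, hc, hcu⟩ := hu _ h1 h2
      have h3 : g c ∈ M := hc
      have h4 : g c = ⟨zY, mem_centralizer_singleton_iff.2 rfl⟩ := by
        apply Subtype.ext
        show f ⟨c.1.1, mem_centralizer_singleton_iff.2 (TZ_t c)⟩ = f zH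
        have h5 : (⟨c.1.1, mem_centralizer_singleton_iff.2 (TZ_t c)⟩ : ↥(centralizer ({(t : D)} : Set D))) = zH * tH :=
          Subtype.ext hcu
        rw [h5, map_mul, hft, mul_one]
      rwa [h4] at h3

/-- An isolated involution commutes with the 2-elements it normalises. -/
theorem comm_of_isolated (hzz : z * z = 1)
    (hiso : ∀ d : D, (d * z * d⁻¹) * z = z * (d * z * d⁻¹) → d * z * d⁻¹ = z) {w : D}
    (h4 : (w * z * w⁻¹ * z) ^ 4 = 1) : w * z = z * w := by
  set c := w * z * w⁻¹ * z with hc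
  have hzc : z * c * z = c⁻¹ := by
    have hzi : z⁻¹ = z := inv_eq_of_mul_eq_one_left hzz
    have e : c⁻¹ = z⁻¹ * (w * z⁻¹ * w⁻¹) := by rw [hc]; group
    rw [e, hzi, hc]
    calc z * (w * z * w⁻¹ * z) * z = z * (w * z * w⁻¹) * (z * z) := by group
      _ = z * (w * z * w⁻¹) := by rw [hzz, mul_one]
  have hzc' : z * c = c⁻¹ * z := by
    calc z * c = z * c * (z * z) := by rw [hzz, mul_one]
      _ = z * c * z * z := by group
      _ = c⁻¹ * z := by rw [hzc]
  have hcz : c * z * c⁻¹ = c * c * z := by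
    have h1 : z * c⁻¹ = c * z := by
      calc z * c⁻¹ = z * (z * c * z) := by rw [hzc]
        _ = (z * z) * c * z := by group
        _ = c * z := by rw [hzz, one_mul]
    rw [mul_assoc, h1, ← mul_assoc]
  have h5 : c * c = c⁻¹ * c⁻¹ := by
    have h6 : (c * c) * (c * c) = 1 := by
      calc (c * c) * (c * c) = c ^ 4 := by rw [pow_succ, pow_succ, pow_succ, pow_one, mul_assoc (c * c)]
        _ = 1 := h4
    calc c * c = (c * c)⁻¹ := eq_inv_of_mul_eq_one_left h6
      _ = c⁻¹ * c⁻¹ := by group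
  have h6 := hiso c (by
    rw [hcz]
    calc c * c * z * z = c * c * (z * z) := by group
      _ = (c * c) := by rw [hzz, mul_one]
      _ = c⁻¹ * c⁻¹ := h5
      _ = c⁻¹ * c⁻¹ * (z * z) := by rw [hzz, mul_one]
      _ = c⁻¹ * (c⁻¹ * z) * z := by group
      _ = c⁻¹ * (z * c) * z := by rw [hzc']
      _ = (c⁻¹ * z) * c * z := by group
      _ = (z * c) * c * z := by rw [hzc']
      _ = z * (c * c * z) := by group)
  rw [hcz] at h6
  have h7 : c * c = 1 := by
    calc c * c = c * c * z * z⁻¹ := by group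
      _ = 1 := by rw [h6, mul_inv_cancel]
  have h8 : c = c⁻¹ := eq_inv_of_mul_eq_one_left h7
  -- `w z w⁻¹` commutes with `z`
  have h9 := hiso w (by
    have e1 : w * z * w⁻¹ * z = c := hc.symm
    have e2 : z * (w * z * w⁻¹) = c⁻¹ := by
      rw [← hzc, hc]
      calc z * (w * z * w⁻¹) = z * (w * z * w⁻¹) * (z * z) := by rw [hzz, mul_one]
        _ = z * (w * z * w⁻¹ * z) * z := by group
    rw [e1, e2]
    exact h8)
  exact mul_inv_eq_iff_eq_mul.1 h9

/-- **The condition on `u`**, from a normal 2-subgroup of `C_D(u)`. -/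
theorem mem_of_radical (hzz : z * z = 1)
    (hiso : ∀ d : D, (d * z * d⁻¹) * z = z * (d * z * d⁻¹) → d * z * d⁻¹ = z)
    {t : ↥(centralizer ({z} : Set D))} {R : Subgroup D} (hR4 : ∀ r ∈ R, r ^ 4 = 1)
    (hRu : ∀ r ∈ R, r * (z * t) = (z * t) * r)
    (hRn : ∀ c : D, c * (z * t) = (z * t) * c → ∀ r ∈ R, c * r * c⁻¹ ∈ R)
    (hRc : ∀ r ∈ R, (∀ s ∈ R, r * s = s * r) → r = 1 ∨ r = z * t)
    (hRR : ∀ r ∈ R, ∀ s ∈ R, r * s * r⁻¹ * s⁻¹ = 1 ∨ r * s * r⁻¹ * s⁻¹ = z * t)
    {N : Subgroup ↥(TZ t)} (hN : N.Normal)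
    (hne : ∃ g ∈ N, ∃ r ∈ R, ((g : ↥(centralizer ({z} : Set D))) : D) * r ≠
      r * ((g : ↥(centralizer ({z} : Set D))) : D)) :
    ∃ g ∈ N, ((g : ↥(centralizer ({z} : Set D))) : D) = z * t := by
  have htz : (t : D) * z = z * t := mem_centralizer_singleton_iff.1 t.2
  have hzu : z * (z * t) = (z * t) * z := by
    calc z * (z * t) = z * (t * z) := by rw [htz]
      _ = (z * t) * z := by group
  -- `R ≤ C(z) ∩ C(t)`
  have hRz : ∀ r ∈ R, r * z = z * r := by
    intro r hr
    refine comm_of_isolated hzz hiso (hR4 _ ?_)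
    have h1 : z * r⁻¹ * z⁻¹ ∈ R := hRn z hzu _ (R.inv_mem hr)
    have hzi : z⁻¹ = z := inv_eq_of_mul_eq_one_left hzz
    rw [hzi] at h1
    have e : r * z * r⁻¹ * z = r * (z * r⁻¹ * z) := by group
    rw [e]
    exact R.mul_mem hr h1
  have hRt : ∀ r ∈ R, r * t = t * r := by
    intro r hr
    have h1 := hRu r hr
    have h2 := hRz r hr
    have h3 : z * (r * t) = z * (t * r) := by
      calc z * (r * t) = (z * r) * t := by group
        _ = (r * z) * t := by rw [h2]
        _ = r * (z * t) := by group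
        _ = z * t * r := h1
        _ = z * (t * r) := by group
    exact mul_left_cancel h3
  have key : ∀ r ∈ R, ∀ s ∈ R, ∀ g : ↥(TZ t), g ∈ N → ((g : ↥(centralizer ({z} : Set D))) : D) = r →
      r * s ≠ s * r → ∃ g ∈ N, ((g : ↥(centralizer ({z} : Set D))) : D) = z * t := by
    intro r hr s hs g hg hgr hrs
    let s' : ↥(TZ t) := mkTZ t (hRz s hs) (hRt s hs)
    refine ⟨g * (s' * g⁻¹ * s'⁻¹), N.mul_mem hg (hN.conj_mem _ (N.inv_mem hg) s'), ?_⟩
    show ((g : ↥(centralizer ({z} : Set D))) : D) * (s * (((g : ↥(centralizer ({z} : Set D))) : D))⁻¹ * s⁻¹) = z * t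
    rw [hgr]
    have e : r * (s * r⁻¹ * s⁻¹) = r * s * r⁻¹ * s⁻¹ := by group
    rw [e]
    refine (hRR r hr s hs).resolve_left fun h1 => hrs ?_
    rwa [mul_inv_eq_one, mul_inv_eq_iff_eq_mul] at h1
  obtain ⟨g, hg, r, hr, hgr⟩ := hne
  -- the commutator of `g` and `r`
  let r' : ↥(TZ t) := mkTZ t (hRz r hr) (hRt r hr)
  have hgu : ((g : ↥(centralizer ({z} : Set D))) : D) * (z * t) = (z * t) * ((g : ↥(centralizer ({z} : Set D))) : D) := by
    rw [← mul_assoc, TZ_z g, mul_assoc, TZ_t g, mul_assoc]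
  set c : D := ((g : ↥(centralizer ({z} : Set D))) : D) * r * (((g : ↥(centralizer ({z} : Set D))) : D))⁻¹ * r⁻¹ with hc
  have hcR : c ∈ R := R.mul_mem (hRn _ hgu r hr) (R.inv_mem hr)
  have hcN : g * (r' * g⁻¹ * r'⁻¹) ∈ N := N.mul_mem hg (hN.conj_mem _ (N.inv_mem hg) r')
  have hcc : (((g * (r' * g⁻¹ * r'⁻¹) : ↥(TZ t)) : ↥(centralizer ({z} : Set D))) : D) = c := by
    show ((g : ↥(centralizer ({z} : Set D))) : D) * (r * (((g : ↥(centralizer ({z} : Set D))) : D))⁻¹ * r⁻¹) = c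
    rw [hc]; group
  have hc1 : c ≠ 1 := by
    intro h1
    apply hgr
    rwa [hc, mul_inv_eq_one, mul_inv_eq_iff_eq_mul] at h1
  by_cases hcu : c = z * t
  · exact ⟨_, hcN, hcc.trans hcu⟩
  · have h1 : ¬ ∀ s ∈ R, c * s = s * c := fun h2 => by
      rcases hRc c hcR h2 with h3 | h3
      · exact hc1 h3
      · exact hcu h3
    push Not at h1
    obtain ⟨s, hs, hcs⟩ := h1
    exact key c hcR s hs _ hcN hcc hcs

end

end Cfsg.Agent.PreUniqB

end

-- merged: Cfsg.Agent.PreUniqB.Cover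
section

/-!
# Fixed rank 0 in the chart (helper19)

`x` of order `p` in `C(z)`, of fixed rank 0, `t ≠ z` an involution commuting with `x` and `z`, `u = z t` conjugate to `z`.

* `fr_conj_eq` : the fixed rank of `x` at `u` is the middle one;
* `rkT_zero` : `RkT p x t`.
-/

set_option autoImplicit false

namespace Cfsg.Agent.PreUniqB

open Cfsg Cfsg.Agent.MonsterU Cfsg.Agent.PreUniq
open Cfsg.Agent.LThreeMB (fr fr_conj Zx XX zD toXX exists_XX_equiv)
open Cfsg.Agent.MFive (comm_iff_fix exists_fix cent_PP orderOf_pi coe_pow pow_four TrNe isolated not_simple orderOf_conj'')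
open Cfsg.Agent.PreUniq.MonThree (Spl)
open Cfsg.Agent.MonsterU.Ch
open Cfsg.Agent.MonsterU.Lam2 (L2)
open Cfsg.Spor (Co1)
open Subgroup (centralizer zpowers mem_centralizer_singleton_iff)

universe u v

variable {p : ℕ} {G : Type u} [Group G] {Q : Subgroup G} {z : G} {eta : G → L2}
  {pi : Subgroup.centralizer ({z} : Set G) →* Co1}

/-- `k⁻¹ x k` as an element of `C(z)` -/
theorem conj_mem_cent {x t k : G} (hxz : x * z = z * x) (htx : t * x = x * t) (hk : k * z * k⁻¹ = z * t) :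
    k⁻¹ * x * k ∈ centralizer ({z} : Set G) := by
  rw [mem_centralizer_singleton_iff]
  have h1 : x * (z * t) = (z * t) * x := by
    rw [← mul_assoc, hxz, mul_assoc, ← htx, ← mul_assoc]
  calc k⁻¹ * x * k * z = k⁻¹ * (x * (k * z * k⁻¹)) * k := by group
    _ = k⁻¹ * ((k * z * k⁻¹) * x) * k := by rw [hk, h1]
    _ = z * (k⁻¹ * x * k) := by group

/-- **The fixed rank at `u`.** -/
theorem fr_conj_eq [Finite G] (h : Chart Q z eta pi) (hp : p.Prime) (ho : Odd p) (ht : TrNe p z pi) {n : ℕ}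
    {R : ℕ → Prop} (hC : ∀ s : Co1, orderOf s = p → fr s = 1 ∨ fr s = n ∨ R (fr s))
    (hR : ∀ x : Subgroup.centralizer ({z} : Set G), orderOf x = p → R (fr (pi x)) → Spl p (XX (x : G)))
    {x : Subgroup.centralizer ({z} : Set G)} (hx : orderOf x = p) (hfr : fr (pi x) = 1) {t : G} (htt : t * t = 1)
    (ht1 : t ≠ 1) (htz : t * z = z * t) (htx : t * (x : G) = x * t) (htne : t ≠ z) {k : G} (hk : k * z * k⁻¹ = z * t) :
    fr (pi ⟨k⁻¹ * x * k, conj_mem_cent (mem_centralizer_singleton_iff.1 x.2) htx hk⟩) = n := by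
  set x' : Subgroup.centralizer ({z} : Set G) :=
    ⟨k⁻¹ * x * k, conj_mem_cent (mem_centralizer_singleton_iff.1 x.2) htx hk⟩ with hx'def
  have hz2 : z * z = 1 := h.large.z_sq
  have hxz : (x : G) * z = z * x := mem_centralizer_singleton_iff.1 x.2
  have hgx' : k * (x' : G) * k⁻¹ = x := by
    show k * (k⁻¹ * (x : G) * k) * k⁻¹ = x
    group
  have hx' : orderOf x' = p := by
    rw [← Subgroup.orderOf_coe]
    show orderOf (k⁻¹ * (x : G) * k) = p
    rw [orderOf_conj'', Subgroup.orderOf_coe, hx]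
  rcases hC (pi x') (orderOf_pi h hp ho hx') with h1 | h1 | h1
  · exfalso
    refine ht x x' (z * t) k hx hx' hfr h1 ?_ ?_ ?_ ?_ ?_ ?_
    · rw [mul_assoc, htz]
    · calc z * t * (z * t) = z * (t * z) * t := by group
        _ = (z * z) * (t * t) := by rw [htz]; group
        _ = 1 := by rw [hz2, htt, one_mul]
    · intro h2
      apply htne
      calc t = z⁻¹ * (z * t) := by group
        _ = z⁻¹ := by rw [h2, mul_one]
        _ = z := inv_eq_of_mul_eq_one_left hz2
    · intro h2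
      apply ht1
      calc t = z⁻¹ * (z * t) := by group
        _ = 1 := by rw [h2, inv_mul_cancel]
    · rw [← mul_assoc, hxz, mul_assoc, ← htx, ← mul_assoc]
    · calc k * ((x' : G) * z) * k⁻¹ = (k * x' * k⁻¹) * (k * z * k⁻¹) := by group
        _ = x * (z * t) := by rw [hgx', hk]
  · exact h1
  · exfalso
    have hS := hR x' hx' h1
    obtain ⟨-, ⟨e⟩⟩ := exists_XX_equiv hgx'
    have hS' := hS.congr e
    obtain ⟨a, b, hab⟩ := hS'.nc
    refine not_simple h ho hx (fun d hd hc => isolated h ht hx hfr d hd hc) hS'.simple ?_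
    intro h4
    apply hab
    have h5 : b ∈ Subgroup.center (XX (x : G)) := by rw [h4]; trivial
    exact Subgroup.mem_center_iff.1 h5 a

/-- `t` as an element of `C_{C(x)}(z)` -/
def tD {x t : G} {z' : ↥(centralizer ({x} : Set G))} (htx : t * x = x * t) (htz : t * (z' : G) = z' * t) :
    ↥(centralizer ({z'} : Set ↥(centralizer ({x} : Set G)))) :=
  ⟨⟨t, mem_centralizer_singleton_iff.2 htx⟩, mem_centralizer_singleton_iff.2 (Subtype.ext htz)⟩

/-- `C_{C(x)}(t) → C(x) ∩ C(t)` -/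
def toXTT {x t : G} (htx : t * x = x * t) :
    ↥(centralizer ({(⟨t, mem_centralizer_singleton_iff.2 htx⟩ : ↥(centralizer ({x} : Set G)))} :
      Set ↥(centralizer ({x} : Set G)))) →* ↥(XTT x t) where
  toFun c := ⟨((c : ↥(centralizer ({x} : Set G))) : G), mem_XTT.2 ⟨mem_centralizer_singleton_iff.1 c.1.2,
    congrArg Subtype.val (mem_centralizer_singleton_iff.1 c.2)⟩⟩
  map_one' := rfl
  map_mul' _ _ := rfl

theorem toXTT_surj {x t : G} (htx : t * x = x * t) : Function.Surjective (toXTT htx) := by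
  rintro ⟨c, hc⟩
  obtain ⟨h1, h2⟩ := mem_XTT.1 hc
  exact ⟨⟨⟨c, mem_centralizer_singleton_iff.2 h1⟩, mem_centralizer_singleton_iff.2 (Subtype.ext h2)⟩, rfl⟩

/-- **Fixed rank 0.** -/
theorem rkT_zero (FT : ∀ (K : Type u) [Group K] [Finite K], Odd (Nat.card K) → Group.IsSolvable K) [Finite G]
    (h : Chart Q z eta pi) (hp : p.Prime) (ho : Odd p) {x : Subgroup.centralizer ({z} : Set G)} (hx : orderOf x = p)
    (hiso : ∀ d : G, d * (x : G) = x * d → (d * z * d⁻¹) * z = z * (d * z * d⁻¹) → d * z * d⁻¹ = z)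
    {t : G} (htz : t * z = z * t) (htx : t * (x : G) = x * t) {k : G} (hk : k * z * k⁻¹ = z * t)
    {S : Type v} [Group S] (hS : Spl p S)
    (F : ↥(TZ (tD (z' := zD x) htx htz)) →* S) (hF : Function.Surjective F)
    (hFs : Group.IsSolvable ↥F.ker) (hFc : ¬ p ^ 2 ∣ Nat.card ↥F.ker)
    (hFt : ∀ g : ↥(TZ (tD (z' := zD x) htx htz)),
      (((g : ↥(centralizer ({zD x} : Set ↥(centralizer ({(x : G)} : Set G))))) :
        ↥(centralizer ({(x : G)} : Set G))) : G) = t → F g = 1)
    {r : ℕ} (hr : r.Prime) (hro : Odd r) (hrS : r ∣ Nat.card S)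
    (hA : ∀ s y : Co1, orderOf s = p → orderOf y = r → s * y = y * s → (∀ v : L2, s • v = v → y • v = v) →
      fr s ≠ fr (pi ⟨k⁻¹ * x * k, conj_mem_cent (mem_centralizer_singleton_iff.1 x.2) htx hk⟩)) :
    RkT p (x : G) t := by
  have hp2 : p ≠ 2 := fun h1 => by rw [h1] at ho; exact absurd ho (by decide)
  have hxz : (x : G) * z = z * x := mem_centralizer_singleton_iff.1 x.2
  have hzz : zD x * zD x = 1 := Subtype.ext h.large.z_sq
  have hiso' : ∀ d : ↥(centralizer ({(x : G)} : Set G)), (d * zD x * d⁻¹) * zD x = zD x * (d * zD x * d⁻¹) →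
      d * zD x * d⁻¹ = zD x := fun d hd =>
    Subtype.ext (hiso d (mem_centralizer_singleton_iff.1 d.2) (congrArg Subtype.val hd))
  set x' : Subgroup.centralizer ({z} : Set G) :=
    ⟨k⁻¹ * x * k, conj_mem_cent (mem_centralizer_singleton_iff.1 x.2) htx hk⟩ with hx'def
  have hx' : orderOf x' = p := by
    rw [← Subgroup.orderOf_coe]
    show orderOf (k⁻¹ * (x : G) * k) = p
    rw [orderOf_conj'', Subgroup.orderOf_coe, hx]
  have hx'p : x' ^ p = 1 := by rw [← hx', pow_orderOf_eq_one]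
  intro Y _ _ f hf hkf
  -- the group `R`
  let R : Subgroup ↥(centralizer ({(x : G)} : Set G)) :=
    (Q.map (MulAut.conj k).toMonoidHom).subgroupOf (centralizer ({(x : G)} : Set G))
  have hR : ∀ r : ↥(centralizer ({(x : G)} : Set G)), r ∈ R ↔ k⁻¹ * (r : G) * k ∈ Q := by
    intro r
    rw [Subgroup.mem_subgroupOf, Subgroup.mem_map]
    constructor
    · rintro ⟨q, hq, hqr⟩
      have h1 : k * q * k⁻¹ = (r : G) := hqr
      rw [← h1, show k⁻¹ * (k * q * k⁻¹) * k = q by group]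
      exact hq
    · intro h1
      exact ⟨_, h1, by show k * (k⁻¹ * (r : G) * k) * k⁻¹ = r; group⟩
  -- translation
  have hcm : ∀ {a b : G}, a * b = b * a → (k⁻¹ * a * k) * (k⁻¹ * b * k) = (k⁻¹ * b * k) * (k⁻¹ * a * k) := by
    intro a b hab
    calc (k⁻¹ * a * k) * (k⁻¹ * b * k) = k⁻¹ * (a * b) * k := by group
      _ = k⁻¹ * (b * a) * k := by rw [hab]
      _ = _ := by group
  have hcm' : ∀ {a b : G}, (k⁻¹ * a * k) * (k⁻¹ * b * k) = (k⁻¹ * b * k) * (k⁻¹ * a * k) → a * b = b * a := by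
    intro a b hab
    calc a * b = k * ((k⁻¹ * a * k) * (k⁻¹ * b * k)) * k⁻¹ := by group
      _ = k * ((k⁻¹ * b * k) * (k⁻¹ * a * k)) * k⁻¹ := by rw [hab]
      _ = b * a := by group
  have hku : k⁻¹ * (z * t) * k = z := by rw [← hk]; group
  let tA := tD (z' := zD x) htx htz
  have key : ∀ N : Subgroup ↥(TZ tA), N.Normal → N.map F = ⊤ →
      ∃ g ∈ N, ((g : ↥(centralizer ({zD x} : Set ↥(centralizer ({(x : G)} : Set G))))) :
        ↥(centralizer ({(x : G)} : Set G))) = zD x * tA := by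
    intro N hN hNF
    refine mem_of_radical hzz hiso' (R := R) ?_ ?_ ?_ ?_ ?_ hN ?_
    · intro r hr
      apply Subtype.ext
      show (r : G) ^ 4 = 1
      have h1 := pow_four h ((hR r).1 hr)
      calc (r : G) ^ 4 = k * (k⁻¹ * (r : G) * k) ^ 4 * k⁻¹ := by
            rw [← conj_pow (a := k) (b := k⁻¹ * (r : G) * k)]
            congr 1
            group
        _ = 1 := by rw [h1]; group
    · intro r hr
      apply Subtype.ext
      show (r : G) * (z * t) = (z * t) * r
      apply hcm'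
      rw [hku]
      exact h.large.comm_z _ ((hR r).1 hr)
    · intro c hc r hr
      rw [hR]
      show k⁻¹ * ((c : G) * r * (c : G)⁻¹) * k ∈ Q
      have h1 : (c : G) * (z * t) = (z * t) * c := congrArg Subtype.val hc
      have h2 := hcm h1
      rw [hku] at h2
      have h3 := h.large.conj_mem _ h2 _ ((hR r).1 hr)
      rwa [show k⁻¹ * (c : G) * k * (k⁻¹ * (r : G) * k) * (k⁻¹ * (c : G) * k)⁻¹ =
        k⁻¹ * ((c : G) * r * (c : G)⁻¹) * k by group] at h3
    · intro r hr hrc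
      have hrx : (r : G) * x = x * r := mem_centralizer_singleton_iff.1 r.2
      have h1 : (k⁻¹ * (r : G) * k) * (x' : G) = x' * (k⁻¹ * (r : G) * k) := hcm hrx
      have h2 := cent_PP h ho hx'p ((hR r).1 hr) h1 (by
        intro w hw hwx
        have hwx' : (k * w * k⁻¹) * (x : G) = x * (k * w * k⁻¹) := by
          apply hcm'
          rw [show k⁻¹ * (k * w * k⁻¹) * k = w by group]
          exact hwx
        have h3 : (⟨k * w * k⁻¹, mem_centralizer_singleton_iff.2 hwx'⟩ : ↥(centralizer ({(x : G)} : Set G))) ∈ R := by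
          rw [hR]
          show k⁻¹ * (k * w * k⁻¹) * k ∈ Q
          rwa [show k⁻¹ * (k * w * k⁻¹) * k = w by group]
        have h4 : (r : G) * (k * w * k⁻¹) = (k * w * k⁻¹) * r := congrArg Subtype.val (hrc _ h3)
        have h5 := hcm h4
        rwa [show k⁻¹ * (k * w * k⁻¹) * k = w by group] at h5)
      rcases h2 with h2 | h2
      · left
        apply Subtype.ext
        show (r : G) = 1
        calc (r : G) = k * (k⁻¹ * (r : G) * k) * k⁻¹ := by group
          _ = 1 := by rw [h2]; group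
      · right
        apply Subtype.ext
        show (r : G) = z * t
        calc (r : G) = k * (k⁻¹ * (r : G) * k) * k⁻¹ := by group
          _ = z * t := by rw [h2, hk]
    · intro r hr s hs
      have h1 := h.large.comm _ ((hR r).1 hr) _ ((hR s).1 hs)
      rcases h1 with h1 | h1
      · left
        have h2 := hcm' h1
        apply Subtype.ext
        show (r : G) * s * (r : G)⁻¹ * (s : G)⁻¹ = 1
        rw [h2]; group
      · right
        apply Subtype.ext
        show (r : G) * s * (r : G)⁻¹ * (s : G)⁻¹ = z * t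
        have h2 : (r : G) * s = s * r * (z * t) := by
          calc (r : G) * s = k * ((k⁻¹ * (r : G) * k) * (k⁻¹ * (s : G) * k)) * k⁻¹ := by group
            _ = k * ((k⁻¹ * (s : G) * k) * (k⁻¹ * (r : G) * k) * z) * k⁻¹ := by rw [h1]
            _ = s * r * (k * z * k⁻¹) := by group
            _ = s * r * (z * t) := by rw [hk]
        have h3 : (s : G) * r * (z * t) = (z * t) * (s * r) := by
          apply hcm'
          rw [hku]
          have h4 : k⁻¹ * ((s : G) * r) * k = (k⁻¹ * (s : G) * k) * (k⁻¹ * (r : G) * k) := by group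
          rw [h4]
          exact h.large.comm_z _ (Q.mul_mem ((hR s).1 hs) ((hR r).1 hr))
        rw [h2, h3]; group
    · -- an element of order `r`
      by_contra hcon
      push Not at hcon
      have : Fact r.Prime := ⟨hr⟩
      have hdvd : r ∣ Nat.card ↥N := by
        have h1 : Nat.card ↥(N.map F) ∣ Nat.card ↥N := Subgroup.card_map_dvd N F
        rw [hNF, Subgroup.card_top] at h1
        exact hrS.trans h1
      obtain ⟨⟨g, hgN⟩, hg⟩ := exists_prime_orderOf_dvd_card' r hdvd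
      set y : G := (((g : ↥(centralizer ({zD x} : Set ↥(centralizer ({(x : G)} : Set G))))) :
        ↥(centralizer ({(x : G)} : Set G))) : G) with hy
      have hyo : orderOf y = r := by
        rw [Subgroup.orderOf_mk] at hg
        rw [hy, Subgroup.orderOf_coe, Subgroup.orderOf_coe, Subgroup.orderOf_coe]
        exact hg
      have hyx : y * (x : G) = x * y := mem_centralizer_singleton_iff.1 (g : ↥(centralizer ({zD x} :
        Set ↥(centralizer ({(x : G)} : Set G))))).1.2
      have hyz : y * z = z * y := congrArg Subtype.val (TZ_z g)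
      have hyt : y * t = t * y := congrArg Subtype.val (TZ_t g)
      have hyu : y * (z * t) = (z * t) * y := by rw [← mul_assoc, hyz, mul_assoc, hyt, mul_assoc]
      have hy'z : k⁻¹ * y * k ∈ centralizer ({z} : Set G) := by
        rw [mem_centralizer_singleton_iff]
        have h1 := hcm hyu
        rwa [hku] at h1
      set y' : Subgroup.centralizer ({z} : Set G) := ⟨k⁻¹ * y * k, hy'z⟩ with hy'def
      have hy'o : orderOf y' = r := by
        rw [← Subgroup.orderOf_coe]
        show orderOf (k⁻¹ * y * k) = r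
        rw [orderOf_conj'', hyo]
      have hy'r : y' ^ r = 1 := by rw [← hy'o, pow_orderOf_eq_one]
      have hxy' : x' * y' = y' * x' := Subtype.ext (hcm hyx.symm)
      refine hA (pi x') (pi y') (orderOf_pi h hp ho hx') (orderOf_pi h hr hro hy'o) ?_ ?_ rfl
      · rw [← map_mul, hxy', map_mul]
      · intro v hv
        obtain ⟨w, hw, hwx, rfl⟩ := exists_fix h ho hx'p hv
        refine (comm_iff_fix h hro hy'r hw).1 ?_
        have hwx' : (k * w * k⁻¹) * (x : G) = x * (k * w * k⁻¹) := by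
          apply hcm'
          rw [show k⁻¹ * (k * w * k⁻¹) * k = w by group]
          exact hwx
        have h3 : (⟨k * w * k⁻¹, mem_centralizer_singleton_iff.2 hwx'⟩ : ↥(centralizer ({(x : G)} : Set G))) ∈ R := by
          rw [hR]
          show k⁻¹ * (k * w * k⁻¹) * k ∈ Q
          rwa [show k⁻¹ * (k * w * k⁻¹) * k = w by group]
        have h4 : y * (k * w * k⁻¹) = (k * w * k⁻¹) * y := congrArg Subtype.val (hcon g hgN _ h3)
        have h5 := hcm h4
        rwa [show k⁻¹ * (k * w * k⁻¹) * k = w by group] at h5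
  refine rkOne_of_cover FT hp hp2 (MFive.orderOf_zD h x) hiso' (t := tA) hS.simple hS.nc hS.dvd F hF hFs hFc
    (fun g hg => hFt g (congrArg Subtype.val hg)) key (f.comp (toXTT htx)) (hf.comp (toXTT_surj htx)) ?_
  intro c
  show f (toXTT htx c) = 1 ↔ _
  rw [hkf]
  show (((c : ↥(centralizer ({(x : G)} : Set G))) : G) = 1 ∨ ((c : ↥(centralizer ({(x : G)} : Set G))) : G) = t) ↔ _
  constructor
  · rintro (h1 | h1)
    · exact Or.inl (Subtype.ext h1)
    · exact Or.inr (Subtype.ext h1)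
  · rintro (h1 | h1)
    · exact Or.inl (congrArg Subtype.val h1)
    · exact Or.inr (congrArg Subtype.val h1)

end Cfsg.Agent.PreUniqB

end

-- merged: Cfsg.Agent.PreUniqB.SuzMap
section

/-!
# Fixed rank 0, `p = 3`: the map `C(x) ∩ C(z) ∩ C(t) → PSp₄(3)` (helper19)

* `exists_map` : the surjection with small kernel, from helper23's `G1`;
* `rkT_zero_three` : `RkT 3 x t` if `u = z t` is conjugate to `z`.
-/

set_option autoImplicit false

namespace Cfsg.Agent.PreUniqB

open Cfsg Cfsg.Agent.MonsterU Cfsg.Agent.PreUniq Cfsg.Agent.LThreeBX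
open Cfsg.Agent.LThreeMB (fr fr_conj Zx XX zD toXX toXX_surj toCC be exists_XX_equiv CoOne TrNe HasPair KChart.Cent KChart.pi
  isolated orderOf_pi)
open Cfsg.Agent.PreUniq.MonThree (Spl)
open Cfsg.Agent.MonsterU.Ch
open Cfsg.Agent.MonsterU.Lam2 (L2)
open Cfsg.Agent.SporadicStructure
open Cfsg.Spor (Co1)
open Cfsg.Agent.MonsterX.KSide Cfsg.Agent.MonsterX.KLift
open Subgroup (centralizer zpowers mem_centralizer_singleton_iff)

universe u

/-- a group whose elements are `x ^ i`, `x ^ i z` with `x ^ 3 = 1` has at most six elements -/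
theorem card_le_six {D : Type u} [Group D] {K : Subgroup D} {x z : D} (hx : x ^ 3 = 1)
    (h : ∀ k ∈ K, ∃ i : ℤ, k = x ^ i ∨ k = x ^ i * z) : Nat.card ↥K ≤ 6 := by
  have key : ∀ i : ℤ, ∃ j : Fin 3, x ^ i = x ^ (j : ℕ) := by
    intro i
    have h3 : (0 : ℤ) < 3 := by norm_num
    refine ⟨⟨(i % 3).toNat, ?_⟩, ?_⟩
    · have := Int.emod_lt_of_pos i h3
      have := Int.emod_nonneg i h3.ne'
      omega
    · have h4 : (((i % 3).toNat : ℕ) : ℤ) = i % 3 := Int.toNat_of_nonneg (Int.emod_nonneg i h3.ne')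
      show x ^ i = x ^ (i % 3).toNat
      rw [← zpow_natCast, h4]
      conv_lhs => rw [← Int.mul_ediv_add_emod i 3, zpow_add, zpow_mul, show x ^ (3 : ℤ) = 1 from by exact_mod_cast hx,
        one_zpow, one_mul]
  let f : Fin 3 × Fin 2 → D := fun a => x ^ (a.1 : ℕ) * (if a.2 = 0 then 1 else z)
  have h1 : (K : Set D) ⊆ Set.range f := by
    intro k hk
    obtain ⟨i, hi | hi⟩ := h k hk
    · obtain ⟨j, hj⟩ := key i
      exact ⟨(j, 0), by simp only [f, if_pos, mul_one]; rw [hi, hj]⟩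
    · obtain ⟨j, hj⟩ := key i
      exact ⟨(j, 1), by simp only [f, one_ne_zero, if_false]; rw [hi, hj]⟩
  have h2 := Set.ncard_le_ncard h1 (Set.finite_range f)
  have h3 : (Set.range f).ncard ≤ 6 := by
    rw [← Set.image_univ]
    refine (Set.ncard_image_le (Set.finite_univ)).trans ?_
    rw [Set.ncard_univ, Nat.card_eq_fintype_card]
    rfl
  exact h2.trans h3

variable {G : Type u} {V P W : Type*} [Group G] [AddCommGroup V] [Module ℚ V]
  [DistribMulAction G V] [SMulCommClass G ℚ V] [Group P] [AddCommGroup W] [Module ℚ W]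
  {M : KS G V P W} {θ : leechLattice → P}

theorem spl_SU : Spl 3 SuzQ.SU :=
  MonThree.spl_of SuzQ.simple SuzQ.card_SU (by norm_num) (by norm_num)

/-- **The map onto `PSp₄(3)`.** -/
theorem exists_map [Finite G] (L : Lift M θ) (hc : KChart.Cent M)
    {x : centralizer ({M.z} : Set G)} (hx : orderOf x = 3) (hfr : fr (KChart.pi hc x) = 1)
    (hS : Spor.IsoSuz (XX (KChart.pi hc x))) {t : G} (htt : t * t = 1) (ht1 : t ≠ 1) (htne : t ≠ M.z)
    (htz : t * M.z = M.z * t) (htx : t * (x : G) = x * t) :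
    ∃ F : ↥(TZ (tD (z' := zD x) htx htz)) →* SuzQ.SU, Function.Surjective F ∧ Group.IsSolvable ↥F.ker ∧
      ¬ 3 ^ 2 ∣ Nat.card ↥F.ker ∧
      ∀ g : ↥(TZ (tD (z' := zD x) htx htz)),
        (((g : ↥(centralizer ({zD x} : Set ↥(centralizer ({(x : G)} : Set G))))) :
          ↥(centralizer ({(x : G)} : Set G))) : G) = t → F g = 1 := by
  have h := Cfsg.Agent.LThreeMB.KChart.chart L hc
  have hx3 : x ^ 3 = 1 := by rw [← hx, pow_orderOf_eq_one]
  have hxG : (x : G) ^ 3 = 1 := congrArg Subtype.val hx3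
  have hφ := toXX_surj h hx3
  have hK := Main.ker h hx3 hfr
  have hz2 : zD x * zD x = 1 := Subtype.ext h.large.z_sq
  obtain ⟨e⟩ := hS
  set tA := tD (z' := zD x) htx htz with htA
  have htAA : tA * tA = 1 := Subtype.ext (Subtype.ext htt)
  have htA1 : toXX (KChart.pi hc) x tA ≠ 1 := by
    intro h1
    rcases hK.two tA h1 htAA with h2 | h2
    · exact ht1 (congrArg (fun g : ↥(centralizer ({zD x} : Set ↥(centralizer ({(x : G)} : Set G)))) =>
        ((g : ↥(centralizer ({(x : G)} : Set G))) : G)) h2)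
    · exact htne (congrArg (fun g : ↥(centralizer ({zD x} : Set ↥(centralizer ({(x : G)} : Set G)))) =>
        ((g : ↥(centralizer ({(x : G)} : Set G))) : G)) h2)
  have hmem : ∀ k : ↥(centralizer ({zD x} : Set ↥(centralizer ({(x : G)} : Set G)))),
      ((k : ↥(centralizer ({(x : G)} : Set G))) : G) ∈ centralizer ({M.z} : Set G) := fun k =>
    mem_centralizer_singleton_iff.2 (congrArg Subtype.val (mem_centralizer_singleton_iff.1 k.2))
  have h7 : ∀ g : ↥(centralizer ({zD x} : Set ↥(centralizer ({(x : G)} : Set G)))), g ^ 7 = 1 → g * tA = tA * g →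
      g = 1 := by
    intro g hg hgt
    have h1 : (⟨_, hmem g⟩ : centralizer ({M.z} : Set G)) = 1 := by
      refine NoSeven.no_seven L hc hx3 hfr (t := ⟨_, hmem tA⟩) (g := ⟨_, hmem g⟩) ?_ ?_ ?_ ?_ ?_ ?_
      · exact Subtype.ext (congrArg (fun g : ↥(centralizer ({zD x} : Set ↥(centralizer ({(x : G)} : Set G)))) =>
          ((g : ↥(centralizer ({(x : G)} : Set G))) : G)) htAA)
      · intro h2
        apply htA1
        refine (QuotientGroup.eq_one_iff _).2 ?_
        have h3 : be (KChart.pi hc) x (toCC x tA) = 1 := Subtype.ext h2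
        show be (KChart.pi hc) x (toCC x tA) ∈ Zx (KChart.pi hc x)
        rw [h3]
        exact Subgroup.one_mem _
      · exact Subtype.ext (congrArg (fun g : ↥(centralizer ({zD x} : Set ↥(centralizer ({(x : G)} : Set G)))) =>
          ((g : ↥(centralizer ({(x : G)} : Set G))) : G)) hg)
      · exact Subtype.ext (mem_centralizer_singleton_iff.1 tA.1.2).symm
      · exact Subtype.ext (congrArg (fun g : ↥(centralizer ({zD x} : Set ↥(centralizer ({(x : G)} : Set G)))) =>
          ((g : ↥(centralizer ({(x : G)} : Set G))) : G)) hgt)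
      · exact Subtype.ext (mem_centralizer_singleton_iff.1 g.1.2).symm
    exact Subtype.ext (Subtype.ext (congrArg (fun q : centralizer ({M.z} : Set G) => (q : G)) h1))
  -- the class of the image of `t`
  obtain ⟨e', hc'⟩ : ∃ e' : XX (KChart.pi hc x) ≃* Spor.Suz, e' (toXX (KChart.pi hc) x tA) = SuzThree.CentA.z0 := by
    rcases CTwoTab.Suz.classes (t := e (toXX (KChart.pi hc) x tA))
      (by rw [← map_mul, ← map_mul, htAA, map_one, map_one])
      (fun h => htA1 (e.injective (by rw [h, map_one]))) with h | h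
    · obtain ⟨c, hc'⟩ := isConj_iff.1 h
      refine ⟨e.trans (MulAut.conj c⁻¹), ?_⟩
      show c⁻¹ * e (toXX (KChart.pi hc) x tA) * c⁻¹⁻¹ = _
      rw [← hc']
      group
    · exact (Abs.not_e0 _ hφ hK hz2 e htAA h7 h).elim
  refine ⟨Abs.G1 (toXX (KChart.pi hc) x) e' hc', Abs.G1_surj _ hφ hK hz2 e' htAA hc', Abs.G1_ker _ hK e' hc', ?_, ?_⟩
  · -- the kernel
    set γ := Abs.G1 (toXX (KChart.pi hc) x) e' hc' with hγ
    let β : ↥γ.ker →* ↥SuzThree.QZero.Q0 :=
      ((e'.toMonoidHom.comp (toXX (KChart.pi hc) x)).comp ((TZ tA).subtype.comp γ.ker.subtype)).codRestrict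
        SuzThree.QZero.Q0 (fun g => by
          have h1 : γ (g : ↥(TZ tA)) = 1 := g.2
          exact SuzQ.mk_one_iff.1 h1)
    have hfinQ : Finite ↥SuzThree.QZero.Q0 := Nat.finite_of_card_ne_zero (by rw [KFacts.SuzR.card_R]; norm_num)
    intro h9
    have h1 : Nat.card ↥β.range * Nat.card ↥β.ker = Nat.card ↥γ.ker := by
      rw [← Subgroup.index_ker β, Subgroup.index_mul_card]
    have h2 : Nat.card ↥β.range ∣ Nat.card ↥SuzThree.QZero.Q0 := Subgroup.card_subgroup_dvd_card _
    have h3 : Nat.Coprime (3 ^ 2) (Nat.card ↥β.range) := by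
      refine Nat.Coprime.coprime_dvd_right h2 ?_
      rw [KFacts.SuzR.card_R]
      norm_num
    rw [← h1] at h9
    have h4 : 3 ^ 2 ∣ Nat.card ↥β.ker := h3.dvd_of_dvd_mul_left h9
    have hmem' : ∀ g : ↥β.ker, (((g : ↥γ.ker) : ↥(TZ tA)) : ↥(centralizer ({zD x} :
        Set ↥(centralizer ({(x : G)} : Set G))))) ∈ (toXX (KChart.pi hc) x).ker := by
      intro g
      have h1 : β (g : ↥γ.ker) = 1 := g.2
      have h2 : e' (toXX (KChart.pi hc) x (((g : ↥γ.ker) : ↥(TZ tA)) : ↥(centralizer ({zD x} :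
        Set ↥(centralizer ({(x : G)} : Set G)))))) = 1 := congrArg Subtype.val h1
      rw [MonoidHom.mem_ker]
      apply e'.injective
      rw [h2, map_one]
    have h5 : Nat.card ↥β.ker ≤ Nat.card ↥((toXX (KChart.pi hc) x).ker) := by
      refine Nat.card_le_card_of_injective (fun g => (⟨_, hmem' g⟩ : ↥((toXX (KChart.pi hc) x).ker))) ?_
      intro a b hab
      have h8 := congrArg Subtype.val hab
      exact Subtype.ext (Subtype.ext (Subtype.ext h8))
    have h6 : Nat.card ↥((toXX (KChart.pi hc) x).ker) ≤ 6 := by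
      let K' : Subgroup G := (((toXX (KChart.pi hc) x).ker.map (centralizer ({zD x} :
        Set ↥(centralizer ({(x : G)} : Set G)))).subtype).map (centralizer ({(x : G)} : Set G)).subtype)
      have h7 : Nat.card ↥K' = Nat.card ↥((toXX (KChart.pi hc) x).ker) := by
        rw [Nat.card_congr ((Subgroup.equivMapOfInjective _ _ (Subgroup.subtype_injective _)).toEquiv.symm),
          Nat.card_congr ((Subgroup.equivMapOfInjective _ _ (Subgroup.subtype_injective _)).toEquiv.symm)]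
      rw [← h7]
      refine card_le_six (x := (x : G)) (z := M.z) hxG ?_
      rintro _ ⟨_, ⟨k, hk, rfl⟩, rfl⟩
      exact Main.ker_form h hx3 hfr hk
    have h7 : 3 ^ 2 ≤ Nat.card ↥β.ker := Nat.le_of_dvd Nat.card_pos h4
    omega
  · intro g hg
    have hgt : (g : ↥(centralizer ({zD x} : Set ↥(centralizer ({(x : G)} : Set G))))) = tA :=
      Subtype.ext (Subtype.ext hg)
    have h1 : e' (toXX (KChart.pi hc) x (g : ↥(centralizer ({zD x} : Set ↥(centralizer ({(x : G)} : Set G)))))) =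
        SuzThree.CentA.z0 := by rw [hgt, hc']
    rw [Abs.G1_eq _ e' hc' g (SuzThree.CentA.mem_C1.2 rfl) h1]
    exact SuzQ.mk_one_iff.2 KFacts.SuzLarge.large.z_mem

/-- **Fixed rank 0.** -/
theorem rkT_zero_three (FT : ∀ (K : Type u) [Group K] [Finite K], Odd (Nat.card K) → Group.IsSolvable K) [Finite G]
    [IsSimpleGroup G] (L : Lift M θ) (hc : KChart.Cent M) (I : CoOne) (ht : TrNe M.z (KChart.pi hc))
    {x : centralizer ({M.z} : Set G)} (hx : orderOf x = 3) (hfr : fr (KChart.pi hc x) = 1) {t : G}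
    (htt : t * t = 1) (ht1 : t ≠ 1) (htne : t ≠ M.z) (htz : t * M.z = M.z * t) (htx : t * (x : G) = x * t)
    {k : G} (hk : k * M.z * k⁻¹ = M.z * t) : RkT 3 (x : G) t := by
  have h := Cfsg.Agent.LThreeMB.KChart.chart L hc
  obtain ⟨F, hF, hFs, hFc, hFt⟩ := exists_map L hc hx hfr (I.suz _ (orderOf_pi h hx) hfr) htt ht1 htne htz htx
  have ht' : MFive.TrNe 3 M.z (KChart.pi hc) := by
    intro x x' u g hx hx' hfr hfr' huz huu hu1 hne hux hg
    exact ht x x' u g hx hx' hfr hfr' huz huu hu1 hne hux hg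
  have hiso : ∀ d : G, d * (x : G) = x * d → (d * M.z * d⁻¹) * M.z = M.z * (d * M.z * d⁻¹) → d * M.z * d⁻¹ = M.z :=
    fun d hd hc' => isolated h ht hx hfr d hd hc'
  have hfr' := fr_conj_eq h Nat.prime_three (by decide) ht' (n := 2 ^ 6) (R := fun n => n = 2 ^ 8 ∨ n = 2 ^ 12)
    (fun s hs => by
      rcases LThreeCo1.Ranks.ranks s hs with h1 | h1 | h1 | h1
      · exact Or.inl h1
      · exact Or.inr (Or.inl h1)
      · exact Or.inr (Or.inr (Or.inl h1))
      · exact Or.inr (Or.inr (Or.inr h1)))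
    (fun y hy h2 => MonThree.spl_of_inputs h I hy h2) hx hfr htt ht1 htz htx htne hk
  refine rkT_zero FT h Nat.prime_three (by decide) hx hiso htz htx hk spl_SU F hF hFs hFc hFt (r := 5)
    (by norm_num) (by decide) (by rw [SuzQ.card_SU]; norm_num) ?_
  intro s y hs hy hsy hfix
  rw [hfr']
  exact Lift.three_five hs hy hsy hfix

end Cfsg.Agent.PreUniqB

end

-- merged: Cfsg.Agent.PreUniqB.FiCase
section

/-!
# `RkT 3 x t`, `x` of fixed rank 12 (`C(x)/⟨x⟩ ≅ Fi24'`), `t` not conjugate to `z` (helper20)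
-/

set_option autoImplicit false

namespace Cfsg.Agent.PreUniqB

open Cfsg Subgroup Cfsg.Agent.PreUniq Cfsg.Agent.LThreeMB Cfsg.Agent.MonsterU Cfsg.Agent.MonsterU.Ch
open Cfsg.Agent.MonsterU.Lam2 (L2)
open Cfsg.Spor (Co1)
open scoped commutatorElement

universe u v

open Cfsg.Agent.R08 Cfsg.Agent.R08.FiTwentyFour in
/-- products of two commuting transpositions of `Fi24` -/
theorem two_fi {a b : Spor.Fi24} (P : Cfsg.Agent.R08.TetFi24A.At a b) {t : Spor.Fi24'}
    (ht : (t : Spor.Fi24) = a * b) : Two t (CTwoTab.FiTF.N a b) (P.π.comp (CTwoTab.FiTF.eN a b).toMonoidHom) where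
  mem := by
    rw [CTwoTab.FiTF.mem_N, ht, ← P.hz]
    exact P.z.2
  comm n hn := mem_centralizer_singleton_iff.1 (CTwoTab.FiTF.N_le ht hn)
  norm c hc n hn := by
    have h1 := CTwoTab.FiTF.comm_fix (CTwoTab.FiTF.fix_or_swap P ht (mem_centralizer_singleton_iff.2 hc))
      (CTwoTab.FiTF.fix_or_swap P ht (CTwoTab.FiTF.N_le ht hn))
    have e : ((⁅c, n⁆ : Spor.Fi24') : Spor.Fi24) = ⁅(c : Spor.Fi24), (n : Spor.Fi24)⁆ := by
      rw [commutatorElement_def, commutatorElement_def]
      push_cast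
      rfl
    have h2 : ⁅c, n⁆ ∈ CTwoTab.FiTF.N a b := by
      rw [CTwoTab.FiTF.mem_N, mem_Cab, e]
      refine ⟨?_, h1.1, h1.2⟩
      rw [← e]
      exact mem_commutator_iff.1 (⁅c, n⁆ : Spor.Fi24').2
    have h3 : c * n * c⁻¹ = ⁅c, n⁆ * n := by rw [commutatorElement_def]; group
    rw [h3]
    exact (CTwoTab.FiTF.N a b).mul_mem h2 hn
  two c d hc hd hcN hdN := by
    have key : ∀ c : Spor.Fi24', c * t = t * c → c ∉ CTwoTab.FiTF.N a b →
        (c : Spor.Fi24) * a * (c : Spor.Fi24)⁻¹ = b ∧ (c : Spor.Fi24) * b * (c : Spor.Fi24)⁻¹ = a := by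
      intro c hc hcN
      rcases CTwoTab.FiTF.fix_or_swap P ht (mem_centralizer_singleton_iff.2 hc) with h1 | h1
      · exfalso
        apply hcN
        rw [CTwoTab.FiTF.mem_N, mem_Cab]
        exact ⟨mem_commutator_iff.1 c.2, mul_inv_eq_iff_eq_mul.1 h1.1, mul_inv_eq_iff_eq_mul.1 h1.2⟩
      · exact h1
    obtain ⟨c1, c2⟩ := key c hc hcN
    obtain ⟨d1, d2⟩ := key d hd hdN
    rw [CTwoTab.FiTF.mem_N, mem_Cab]
    refine ⟨mem_commutator_iff.1 (c * d).2, ?_, ?_⟩
    · apply mul_inv_eq_iff_eq_mul.1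
      show (c : Spor.Fi24) * d * a * ((c : Spor.Fi24) * d)⁻¹ = a
      calc (c : Spor.Fi24) * d * a * ((c : Spor.Fi24) * d)⁻¹ = c * (d * a * (d : Spor.Fi24)⁻¹) * (c : Spor.Fi24)⁻¹ := by group
        _ = a := by rw [d1, c2]
    · apply mul_inv_eq_iff_eq_mul.1
      show (c : Spor.Fi24) * d * b * ((c : Spor.Fi24) * d)⁻¹ = b
      calc (c : Spor.Fi24) * d * b * ((c : Spor.Fi24) * d)⁻¹ = c * (d * b * (d : Spor.Fi24)⁻¹) * (c : Spor.Fi24)⁻¹ := by group
        _ = b := by rw [d2, c1]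
  surj := P.lift.ext.surj.comp (CTwoTab.FiTF.eN a b).surjective
  ker n := by
    show P.π (CTwoTab.FiTF.eN a b n) = 1 ↔ _
    rw [P.lift.ext.ker]
    constructor
    · rintro (h | h)
      · left
        have h1 := (CTwoTab.FiTF.eN a b).map_eq_one_iff.1 h
        rw [h1]; rfl
      · right
        have h1 : ((CTwoTab.FiTF.eN a b n : ↥(Cab a b)) : Spor.Fi24) = a * b := by rw [h, P.hz]
        exact Subtype.ext (h1.trans ht.symm)
    · rintro (h | h)
      · left
        have h1 : n = 1 := Subtype.ext h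
        rw [h1, map_one]
      · right
        apply Subtype.ext
        rw [P.hz, ← ht, ← h]
        rfl

theorem classes_fi (τ : Spor.Fi24') (hτ : orderOf τ = 2) : Pairish 3 τ ∨ IsConj τ CTwoTab.FiTF.z0 := by
  rcases CTwoTab.FiTF.classes τ hτ with ⟨a, b, P, h⟩ | ⟨g, hg⟩
  · left
    have hs := Cfsg.Agent.S1696.result
    refine ⟨_, Spor.Fi22, inferInstance, _, hs.1, ?_, ?_, two_fi P h⟩
    · by_contra hcon
      push Not at hcon
      have h1 : center Spor.Fi22 = ⊤ := by
        rw [eq_top_iff]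
        intro x _
        rw [mem_center_iff]
        exact fun g => hcon g x
      rw [CTwoTab.FiTF.center_Fi22] at h1
      have h2 := hs.1.toNontrivial
      exact absurd h1 bot_ne_top
    · rw [hs.2]; norm_num
  · right
    rw [hg]
    exact (isConj_iff.2 ⟨g, rfl⟩).symm

variable {G : Type u} [Group G] {Q : Subgroup G} {z : G} {eta : G → L2}
  {pi : Subgroup.centralizer ({z} : Set G) →* Co1}

/-- `C(x)/⟨x⟩ ≅ Fi24'` for `x` of fixed rank 12 -/
theorem isoFi [Finite G] [IsSimpleGroup G] (h : Chart Q z eta pi) (I : CoOne)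
    {x : Subgroup.centralizer ({z} : Set G)} (hx : orderOf x = 3) (hfr : fr (pi x) = 2 ^ 12) :
    Spor.IsoFi24' (XX (x : G)) := by
  obtain ⟨s, hs, hfs, ht, h4⟩ := I.psu
  obtain ⟨x', hx', hs', c, hc⟩ := exists_conj_to h hx hs (by rw [hfr]; exact I.twelve) (by rw [hfs, hfr])
  subst hs'
  obtain ⟨-, ⟨f⟩⟩ := exists_XX_equiv hc
  obtain ⟨e⟩ := iso_fi24 h hx' hfs (by rw [hfs]; exact I.twelve) ht h4
  first
  | exact ⟨f.trans e⟩
  | exact ⟨f.symm.trans e⟩

/-- **Fixed rank 12.** -/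
theorem rkT_fi [Finite G] [IsSimpleGroup G] (h : Chart Q z eta pi) (I : CoOne)
    {x : Subgroup.centralizer ({z} : Set G)} (hx : orderOf x = 3) (hfr : fr (pi x) = 2 ^ 12) {t : G}
    (ht : orderOf t = 2) (hxt : (x : G) * t = t * x) (hnt : ∀ d : G, d * t * d⁻¹ ≠ z) : RkT 3 (x : G) t := by
  obtain ⟨e⟩ := isoFi h I hx hfr
  exact rkT_of_classes h Nat.prime_three (by norm_num) hx (by rw [hfr]; norm_num) ⟨12, hfr⟩ e classes_fi ht hxt hnt

end Cfsg.Agent.PreUniqB

end

-- merged: Cfsg.Agent.PreUniqB.Asm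
section

/-!
# `RkT p x t` in the chart: assembly (helper19)

`T` : a class of involutions of `G` not containing `z`, such that `z t` is conjugate to `z` for `t` in `T` commuting with `z`
outside of `Q`.

* `rkT_zero_of` : fixed rank 0, from the case `t z = z t`;
* `rkT_mid` : the middle fixed rank;
* `rkT_of_conj` : for `x` commuting with a conjugate of `z`;
* `rkT_th`, `rkT_three` : `p = 3`;
* `rkT_five` : `p = 5`.
-/

set_option autoImplicit false

namespace Cfsg.Agent.PreUniqB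

open Cfsg Cfsg.Agent.MonsterU Cfsg.Agent.PreUniq
open Cfsg.Agent.LThreeMB (fr fr_conj Zx XX zD exists_XX_equiv CoOne)
open Cfsg.Agent.MFive (orderOf_pi TrNe HasPair isolated conj_pair WClassOf orderOf_conj'')
open Cfsg.Agent.MonsterU.Ch
open Cfsg.Agent.MonsterU.Lam2 (L2)
open Cfsg.Spor (Co1)
open Subgroup (centralizer zpowers mem_centralizer_singleton_iff)

universe u v

/-- the class of `t` -/
structure TCl {G : Type u} [Group G] (Q : Subgroup G) (z : G) (T : G → Prop) : Prop where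
  conj : ∀ t g : G, T t → T (g * t * g⁻¹)
  two : ∀ t : G, T t → orderOf t = 2
  ne : ∀ t : G, T t → t ≠ z
  fus : ∀ t : G, T t → t * z = z * t → t ∉ Q → ∃ k : G, k * z * k⁻¹ = z * t

variable {p : ℕ} {G : Type u} [Group G] {Q : Subgroup G} {z : G} {eta : G → L2}
  {pi : Subgroup.centralizer ({z} : Set G) →* Co1} {T : G → Prop}

theorem TCl.sq (hT : TCl Q z T) {t : G} (ht : T t) : t * t = 1 := by rw [← pow_two, ← hT.two t ht, pow_orderOf_eq_one]

theorem TCl.ne_one (hT : TCl Q z T) {t : G} (ht : T t) : t ≠ 1 := by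
  intro h
  have := hT.two t ht
  rw [h, orderOf_one] at this
  norm_num at this

theorem TCl.not_conj (hT : TCl Q z T) {t : G} (ht : T t) (d : G) : d * t * d⁻¹ ≠ z := hT.ne _ (hT.conj t d ht)

/-- The case of fixed rank 0 and `t z = z t`. -/
def Zero (p : ℕ) {G : Type u} [Group G] (z : G) (pi : Subgroup.centralizer ({z} : Set G) →* Co1) (T : G → Prop) : Prop :=
  ∀ (x : Subgroup.centralizer ({z} : Set G)) (t : G), orderOf x = p → fr (pi x) = 1 → T t → t * z = z * t →
    t * (x : G) = x * t → (∃ k : G, k * z * k⁻¹ = z * t) → RkT p (x : G) t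

/-- **Fixed rank 0.** -/
theorem rkT_zero_of [Finite G] (h : Chart Q z eta pi) (ho : Odd p) (htr : TrNe p z pi)
    (hT : TCl Q z T) (H0 : Zero p z pi T) {x : Subgroup.centralizer ({z} : Set G)} (hx : orderOf x = p)
    (hfr : fr (pi x) = 1) {t : G} (htT : T t) (hxt : (x : G) * t = t * x) : RkT p (x : G) t := by
  have hxp : x ^ p = 1 := by rw [← hx, pow_orderOf_eq_one]
  have hzz : z * z = 1 := h.large.z_sq
  have hz1 : z ≠ 1 := h.large.z_ne
  let tD' : ↥(centralizer ({(x : G)} : Set G)) := ⟨t, mem_centralizer_singleton_iff.2 hxt.symm⟩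
  have hzo : orderOf (zD x) = 2 := MFive.orderOf_zD h x
  have hto : orderOf tD' = 2 := by rw [← Subgroup.orderOf_coe]; exact hT.two t htT
  obtain ⟨d, hd⟩ := LThreeBX.Abs.exists_conj_comm hzo (fun d hd => Subtype.ext (isolated h htr hx hfr d
    (mem_centralizer_singleton_iff.1 d.2) (congrArg Subtype.val hd))) hto
  have hd' : ((d : G) * t * (d : G)⁻¹) * z = z * ((d : G) * t * (d : G)⁻¹) := congrArg Subtype.val hd
  have hdx : (d : G) * x = x * d := mem_centralizer_singleton_iff.1 d.2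
  set t' := (d : G) * t * (d : G)⁻¹ with ht'
  have hT' : T t' := hT.conj t d htT
  have hx't : (x : G) * t' = t' * x := by
    have hdx' : Commute (x : G) (d : G) := hdx.symm
    have h1 : Commute (x : G) t := hxt
    exact ((hdx'.mul_right h1).mul_right hdx'.inv_right).eq
  have hnQ : t' ∉ Q := by
    intro hq
    rcases MonGen.free_of_fr h ho hxp hfr hq hx't with h1 | h1
    · exact hT.ne_one hT' h1
    · exact hT.ne _ hT' h1
  have h1 := H0 x t' hx hfr hT' hd' hx't.symm (hT.fus t' hT' hd' hnQ)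
  refine RkT.conj (g := (d : G)⁻¹) ?_ ?_ h1
  · rw [inv_inv, mul_assoc, ← hdx, inv_mul_cancel_left]
  · rw [ht', inv_inv]; group

/-- powers of elements of fixed rank 0 -/
theorem fr_pow (hp : p.Prime) {s : Co1} (hs : orderOf s = p) (hfr : fr s = 1) {i : ℕ} (hi : orderOf (s ^ i) = p) :
    fr (s ^ i) = 1 := by
  obtain ⟨j, hj⟩ : ∃ j : ℕ, (s ^ i) ^ j = s := by
    have h1 : Nat.Coprime (orderOf s) i := by
      rw [hs]
      refine (Nat.Prime.coprime_iff_not_dvd hp).2 fun h => ?_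
      obtain ⟨m, rfl⟩ := h
      have : Fact p.Prime := ⟨hp⟩
      rw [pow_mul, ← hs, pow_orderOf_eq_one, one_pow, orderOf_one] at hi
      have := hp.one_lt
      omega
    obtain ⟨j, hj⟩ := exists_pow_eq_self_of_coprime (G := Co1) (x := s) (n := i) h1.symm
    exact ⟨j, hj⟩
  rw [fr, Nat.card_eq_one_iff_unique] at hfr ⊢
  refine ⟨⟨fun a b => ?_⟩, ⟨⟨0, smul_zero _⟩⟩⟩
  have key : ∀ v : L2, s ^ i • v = v → s • v = v := by
    intro v hv
    rw [← hj]
    have : ∀ j : ℕ, (s ^ i) ^ j • v = v := by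
      intro j
      induction j with
      | zero => rw [pow_zero, one_smul]
      | succ j ih => rw [pow_succ, mul_smul, hv, ih]
    exact this j
  have := hfr.1
  have h9 := congrArg Subtype.val (Subsingleton.elim (⟨a, key a a.2⟩ : {v : L2 // s • v = v})
    ⟨b, key b b.2⟩)
  exact Subtype.ext h9

/-- **The middle fixed rank.** -/
theorem rkT_mid [Finite G] (h : Chart Q z eta pi) (hp : p.Prime) (ho : Odd p) (htr : TrNe p z pi)
    (hT : TCl Q z T) (H0 : Zero p z pi T) {n : ℕ} {R : ℕ → Prop}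
    (hC : ∀ s : Co1, orderOf s = p → fr s = 1 ∨ fr s = n ∨ R (fr s)) (hcl : WClassOf p n)
    (hR : ∀ x : Subgroup.centralizer ({z} : Set G), orderOf x = p → R (fr (pi x)) →
      IsSimpleGroup (XX (x : G)) ∧ Subgroup.center (XX (x : G)) ≠ ⊤) (hpr : HasPair p z pi)
    {x : Subgroup.centralizer ({z} : Set G)} (hx : orderOf x = p)
    (hfr : fr (pi x) = n) {t : G} (htT : T t) (hxt : (x : G) * t = t * x) : RkT p (x : G) t := by
  obtain ⟨x₀, u, g, hx₀, hfr₀, huz, hux, hne, hg⟩ := hpr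
  obtain ⟨k, i, hk⟩ := conj_pair h hp ho htr hC hcl hR hx₀ hfr₀ huz hux hne hg hx hfr
  have hoi : orderOf (x₀ ^ i) = p := by
    rw [← Subgroup.orderOf_coe]
    show orderOf ((x₀ : G) ^ i) = p
    rw [← hk, ← hx, ← Subgroup.orderOf_coe]
    exact MulEquiv.orderOf_eq (MulAut.conj k) (x : G)
  have hfi : fr (pi (x₀ ^ i)) = 1 := by
    rw [map_pow]
    refine fr_pow hp (orderOf_pi h hp ho hx₀) hfr₀ ?_
    rw [← map_pow]
    exact orderOf_pi h hp ho hoi
  have hc : ((x₀ ^ i : Subgroup.centralizer ({z} : Set G)) : G) * (k * t * k⁻¹) =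
      (k * t * k⁻¹) * ((x₀ ^ i : Subgroup.centralizer ({z} : Set G)) : G) := by
    show (x₀ : G) ^ i * (k * t * k⁻¹) = (k * t * k⁻¹) * (x₀ : G) ^ i
    rw [← hk]
    calc k * (x : G) * k⁻¹ * (k * t * k⁻¹) = k * ((x : G) * t) * k⁻¹ := by group
      _ = k * (t * x) * k⁻¹ := by rw [hxt]
      _ = k * t * k⁻¹ * (k * x * k⁻¹) := by group
  have h1 := rkT_zero_of h ho htr hT H0 hoi hfi (hT.conj t k htT) hc
  refine RkT.conj (g := k⁻¹) ?_ ?_ h1
  · show k⁻¹ * ((x₀ : G) ^ i) * k⁻¹⁻¹ = x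
    rw [← hk]; group
  · group

/-- **For `x` commuting with a conjugate of `z`.** -/
theorem rkT_of_conj (hT : TCl Q z T)
    (H : ∀ (x : Subgroup.centralizer ({z} : Set G)) (t : G), orderOf x = p → T t → (x : G) * t = t * x → RkT p (x : G) t)
    {x t : G} (hx : orderOf x = p) (htT : T t) (hxt : x * t = t * x)
    (hex : ∃ g : G, (g * z * g⁻¹) * x = x * (g * z * g⁻¹)) : RkT p x t := by
  obtain ⟨g, hg⟩ := hex
  have h1 : (g⁻¹ * x * g) * z = z * (g⁻¹ * x * g) := by
    calc (g⁻¹ * x * g) * z = g⁻¹ * (x * (g * z * g⁻¹)) * g := by group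
      _ = g⁻¹ * ((g * z * g⁻¹) * x) * g := by rw [hg]
      _ = z * (g⁻¹ * x * g) := by group
  let x' : centralizer ({z} : Set G) := ⟨g⁻¹ * x * g, mem_centralizer_singleton_iff.2 h1⟩
  have h3 : g * (x' : G) * g⁻¹ = x := by
    show g * (g⁻¹ * x * g) * g⁻¹ = x
    group
  have hx' : orderOf x' = p := by
    rw [← Subgroup.orderOf_coe]
    show orderOf (g⁻¹ * x * g) = p
    rw [orderOf_conj'', hx]
  have h4 : (x' : G) * (g⁻¹ * t * g) = (g⁻¹ * t * g) * x' := by
    show (g⁻¹ * x * g) * (g⁻¹ * t * g) = (g⁻¹ * t * g) * (g⁻¹ * x * g)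
    calc (g⁻¹ * x * g) * (g⁻¹ * t * g) = g⁻¹ * (x * t) * g := by group
      _ = g⁻¹ * (t * x) * g := by rw [hxt]
      _ = _ := by group
  have h6 : T (g⁻¹ * t * g) := by
    have h5 := hT.conj t g⁻¹ htT
    rwa [inv_inv] at h5
  exact RkT.conj h3 (by group) (H x' _ hx' h6 h4)

/-! ### `p = 3` -/

/-- **Fixed rank 8**: there is no such `t`. -/
theorem rkT_th [Finite G] [IsSimpleGroup G] (h : Chart Q z eta pi) (I : CoOne)
    {x : Subgroup.centralizer ({z} : Set G)} (hx : orderOf x = 3) (hfr : fr (pi x) = 2 ^ 8) {t : G}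
    (ht : orderOf t = 2) (hxt : (x : G) * t = t * x) (hnt : ∀ d : G, d * t * d⁻¹ ≠ z) : RkT 3 (x : G) t := by
  obtain ⟨s, hs, hfs, ⟨e⟩, hg, hf⟩ := I.nine
  obtain ⟨x', hx', hs', c, hc⟩ := LThreeMB.exists_conj_to h hx hs (by rw [hfr]; exact I.eight) (by rw [hfs, hfr])
  subst hs'
  obtain ⟨-, ⟨f⟩⟩ := exists_XX_equiv hc
  obtain ⟨e'⟩ := LThreeMB.iso_th h hx' hfs (by rw [hfs]; exact I.eight) hf e hg
  have key : ∀ e'' : XX (x : G) ≃* Spor.Th, RkT 3 (x : G) t := fun e'' =>
    rkT_of_classes h Nat.prime_three (by norm_num) hx (by rw [hfr]; norm_num) ⟨8, hfr⟩ e''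
      (fun τ hτ => Or.inr
        (MonsterX.ThOneClass.oneClass _ _ MonsterX.ThOneClass.orderOf_a hτ).symm) ht hxt hnt
  first
  | exact key (f.trans e')
  | exact key (f.symm.trans e')

section

variable {V P W : Type*} [AddCommGroup V] [Module ℚ V]
  [DistribMulAction G V] [SMulCommClass G ℚ V] [Group P] [AddCommGroup W] [Module ℚ W]
  {M : MonsterX.KSide.KS G V P W} {θ : leechLattice → P}

/-- **All `x` of order 3 commuting with a conjugate of `z`.** -/
theorem rkT_three (FT : ∀ (K : Type u) [Group K] [Finite K], Odd (Nat.card K) → Group.IsSolvable K) [Finite G]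
    [IsSimpleGroup G] (L : MonsterX.KLift.Lift M θ) (hc : LThreeMB.KChart.Cent M) (I : CoOne)
    (ht : LThreeMB.TrNe M.z (LThreeMB.KChart.pi hc)) (hpr : HasPair 3 M.z (LThreeMB.KChart.pi hc))
    {T : G → Prop} {Q : Subgroup G} {eta : G → L2} (h : Chart Q M.z eta (LThreeMB.KChart.pi hc)) (hT : TCl Q M.z T)
    {x t : G} (hx : orderOf x = 3) (htT : T t) (hxt : x * t = t * x)
    (hex : ∃ g : G, (g * M.z * g⁻¹) * x = x * (g * M.z * g⁻¹)) : RkT 3 x t := by
  have htr : TrNe 3 M.z (LThreeMB.KChart.pi hc) := by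
    intro x x' u g hx hx' hfr hfr' huz huu hu1 hne hux hg
    exact ht x x' u g hx hx' hfr hfr' huz huu hu1 hne hux hg
  have H0 : Zero 3 M.z (LThreeMB.KChart.pi hc) T := by
    intro x t hx hfr htT htz htx ⟨k, hk⟩
    exact rkT_zero_three FT L hc I ht hx hfr (hT.sq htT) (hT.ne_one htT) (hT.ne t htT) htz htx hk
  refine rkT_of_conj hT (fun x t hx htT hxt => ?_) hx htT hxt hex
  rcases LThreeCo1.Ranks.ranks _ (orderOf_pi h Nat.prime_three (by decide) hx) with h1 | h1 | h1 | h1
  · exact rkT_zero_of h (by decide) htr hT H0 hx h1 htT hxt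
  · refine rkT_mid h Nat.prime_three (by decide) htr hT H0 (n := 2 ^ 6) (R := fun n => n = 2 ^ 8 ∨ n = 2 ^ 12)
      (fun s hs => ?_) (MFive.ClassOf.weak LThreeCo1.Ranks.six) (fun y hy h2 => ?_) hpr hx h1 htT hxt
    · rcases LThreeCo1.Ranks.ranks s hs with h1 | h1 | h1 | h1
      · exact Or.inl h1
      · exact Or.inr (Or.inl h1)
      · exact Or.inr (Or.inr (Or.inl h1))
      · exact Or.inr (Or.inr (Or.inr h1))
    · have h3 := MonThree.spl_of_inputs h I hy h2
      refine ⟨h3.simple, fun h4 => ?_⟩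
      obtain ⟨a, b, hab⟩ := h3.nc
      apply hab
      have h5 : b ∈ Subgroup.center (XX (y : G)) := by rw [h4]; trivial
      exact Subgroup.mem_center_iff.1 h5 a
  · exact rkT_th h I hx h1 (hT.two t htT) hxt (hT.not_conj htT)
  · exact rkT_fi h I hx h1 (hT.two t htT) hxt (hT.not_conj htT)

end

/-! ### `p = 5` -/

/-- **All `x` of order 5 commuting with a conjugate of `z`.** -/
theorem rkT_five [Finite G] (h : Chart Q z eta pi) (htr : TrNe 5 z pi) (hpr : HasPair 5 z pi)
    (ranks : ∀ s : Co1, orderOf s = 5 → fr s = 1 ∨ fr s = 2 ^ 4 ∨ fr s = 2 ^ 8) (hcl : WClassOf 5 (2 ^ 4))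
    (h8 : MFive.HNEight z pi) (hT : TCl Q z T) (H0 : Zero 5 z pi T)
    {x t : G} (hx : orderOf x = 5) (htT : T t) (hxt : x * t = t * x)
    (hex : ∃ g : G, (g * z * g⁻¹) * x = x * (g * z * g⁻¹)) : RkT 5 x t := by
  refine rkT_of_conj hT (fun x t hx htT hxt => ?_) hx htT hxt hex
  rcases ranks _ (orderOf_pi h Nat.prime_five (by decide) hx) with h1 | h1 | h1
  · exact rkT_zero_of h (by decide) htr hT H0 hx h1 htT hxt
  · exact rkT_mid h Nat.prime_five (by decide) htr hT H0 (n := 2 ^ 4) (R := fun n => n = 2 ^ 8) ranks hcl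
      (fun y hy h2 => ⟨(MFive.simple_of_isoHN (h8 y hy h2)).1, (MFive.simple_of_isoHN (h8 y hy h2)).2.1⟩) hpr hx h1
      htT hxt
  · exact rkT_hn h hx h1 (h8 x hx h1) (hT.two t htT) hxt (hT.not_conj htT)

end Cfsg.Agent.PreUniqB

end

-- merged: Cfsg.Agent.PreUniqB.Model
section

/-!
# `NoPre p Spor.BabyMonster` in the model of the Monster (helper19)

* `tcl` : the class of `t`;
* `noPre_of` : from `RkT p x v` for `x` of order `p` commuting with `v` of class `2A`;
* `noPre_three` : `p = 3`.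
-/

set_option autoImplicit false
set_option maxRecDepth 100000

namespace Cfsg.Agent.PreUniqB.Model

open Cfsg Cfsg.Agent.MonsterX Cfsg.Agent.MonsterX.InstData Cfsg.Agent.MonsterX.MainPack Cfsg.Agent.MonsterU
open Cfsg.Agent.MonsterP Cfsg.Agent.MonsterN Cfsg.Agent.PreUniq
open Cfsg.Agent.LThreeMB (KChart.Cent KChart.pi KChart.chart CoOne)
open Cfsg.Agent.MonsterX.MainBasic Cfsg.Agent.MonsterX.MainSimple Cfsg.Agent.MonsterX.Model
open Cfsg.Agent.CpAutBFive
open Subgroup (centralizer mem_centralizer_singleton_iff center)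

universe u

/-- **The class of `t`.** -/
theorem tcl : TCl KDone.K.ι.range KDone.K.z (fun v : ↥InstData.M.G => IsConj RowB.t v) where
  conj v g h := h.trans (isConj_iff.2 ⟨g, rfl⟩)
  two v h := RowB.orderOf_t h
  ne v h hz := RowB.not_conj h 1 (by rw [one_mul, inv_one, mul_one]; exact hz)
  fus v hv hvz hvQ := by
    obtain ⟨g, rfl⟩ := isConj_iff.1 hv
    have hz : KDone.K.z = zG LitFin.all.hG := Subtype.ext KDone.lnk.z_eq.symm
    rcases ClosingModel.out_model LitFin.all.hG LitFin.all.hR LitFin.all.hL LitFin.all.hO LitFin.all.hT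
      LitFin.all.classes g (by rw [← hz]; exact hvz) with h | ⟨k, hk⟩
    · exfalso
      apply hvQ
      obtain ⟨p, hp⟩ := (KDone.lnk.Q_iff _).1 (Subgroup.mem_subgroupOf.1 h)
      exact ⟨p, Subtype.ext hp.symm⟩
    · exact ⟨k, by rw [hz]; exact hk⟩

/-- **From `RkT p x v`.** -/
theorem noPre_of {p : ℕ} (hp : p.Prime) (hp2 : p ≠ 2)
    (H : ∀ x v : ↥InstData.M.G, orderOf x = p → IsConj RowB.t v → x * v = v * x → RkT p x v) :
    NoPre p Spor.BabyMonster := by
  have hfin := MFive.Row.finite_model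
  have hfp : Fact p.Prime := ⟨hp⟩
  obtain ⟨⟨h1, -, ⟨e⟩⟩, -⟩ := ModelB.fieldsKS LitFin.all KDone.lnk KDone.lft (NodesGrp.prel LitFin.H)
    (NodesNe.ne LitFin.H) LitFin.conj_ten Cfsg.Agent.S1704.result KDone.lnk.x₀_mem
  obtain ⟨g, hg⟩ := ModelB.exists_conj_t LitFin.all.hG LitFin.all.hR KDone.lnk KDone.lft KDone.lnk.x₀_mem
  set t := KDone.K.ι KLinkInst.x₀ with ht
  have hconj : IsConj RowB.t t := isConj_iff.2 ⟨g, hg⟩
  have hto : orderOf t = 2 := RowB.orderOf_t hconj
  have hB : Finite Spor.BabyMonster := Finite.of_surjective _ e.surjective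
  let tC : ↥(centralizer ({t} : Set ↥InstData.M.G)) := ⟨t, mem_centralizer_singleton_iff.2 rfl⟩
  have htc : tC ∈ center ↥(centralizer ({t} : Set ↥InstData.M.G)) := by
    rw [Subgroup.mem_center_iff]
    intro c
    exact Subtype.ext (mem_centralizer_singleton_iff.1 c.2)
  have htC1 : tC ≠ 1 := by
    intro h
    have h2 : t = 1 := congrArg Subtype.val h
    rw [h2, orderOf_one] at hto
    norm_num at hto
  have hcen : ∀ c : ↥(centralizer ({t} : Set ↥InstData.M.G)), c ∈ center ↥(centralizer ({t} : Set ↥InstData.M.G)) ↔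
      c = 1 ∨ c = tC := by
    intro c
    constructor
    · intro hc
      obtain ⟨y, hy, huniq⟩ := (Nat.card_eq_two_iff' (1 : ↥(center ↥(centralizer ({t} : Set ↥InstData.M.G))))).1 h1
      by_cases hc1 : c = 1
      · exact Or.inl hc1
      · right
        have h2 := huniq ⟨c, hc⟩ (fun h => hc1 (congrArg Subtype.val h))
        have h3 := huniq ⟨tC, htc⟩ (fun h => htC1 (congrArg Subtype.val h))
        exact congrArg Subtype.val (h2.trans h3.symm)
    · rintro (rfl | rfl)
      · exact Subgroup.one_mem _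
      · exact htc
  refine noPre_of_good fun x hx => goodX_of_rkT hto hp hp2
    (e.toMonoidHom.comp (QuotientGroup.mk' (center ↥(centralizer ({t} : Set ↥InstData.M.G)))))
    (e.surjective.comp (QuotientGroup.mk'_surjective _)) (fun c => ?_) (fun y hy hyt => H y t hy hconj hyt) hx
  show e (QuotientGroup.mk c) = 1 ↔ _
  rw [e.map_eq_one_iff, QuotientGroup.eq_one_iff, hcen]
  constructor
  · rintro (rfl | rfl)
    · exact Or.inl rfl
    · exact Or.inr rfl
  · rintro (h | h)
    · exact Or.inl (Subtype.ext h)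
    · exact Or.inr (Subtype.ext h)

/-- **`NoPre 3 B`** for the group of the definition. -/
theorem noPre_three_baby (I : CoOne) : NoPre 3 Spor.BabyMonster := by
  have hfin : Finite ↥InstData.M.G := MFive.Row.finite_model
  have hs : IsSimpleGroup ↥InstData.M.G := MFive.Row.simple_model
  have ht := LThreeMB.KPair.trNe KDone.lft MFive.Row.hc (LThreeMBTr.traceNe KDone.lft LThreeMBTr.TensK.tens)
  have hp := LThreeMB.KPair.hasPair KDone.lft MFive.Row.hc LThreeB.Row.second LThreeMB.COct.octPair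
  refine noPre_of Nat.prime_three (by norm_num) fun x v hx hv hxv => ?_
  obtain ⟨g, hg, -⟩ := LThreeM.FiRow.exists_z_in (by rw [← hx, pow_orderOf_eq_one]) hv hxv
  exact rkT_three MFive.Row.FT KDone.lft MFive.Row.hc I ht hp (KChart.chart KDone.lft MFive.Row.hc) tcl hx hv hxv ⟨g, hg⟩

/-- **`NoPre 3 B`.** -/
theorem noPre_three (I : CoOne) {G : Type u} [Group G] (h : Spor.IsoB G) : NoPre 3 G := by
  obtain ⟨e⟩ := h
  exact NoPre.congr e.symm (noPre_three_baby I)

end Cfsg.Agent.PreUniqB.Model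

end

-- merged: Cfsg.Agent.PreUniqB.JTwoMap
section

/-!
# `C_D(z) ∩ C_D(t) → A₅` for a central extension `C_D(z)` of `J₂` (helper83, for helper19)

* `exists_map` : `φ : C_D(z) → X` surjective with central kernel whose only involution is `z`; a surjection
  `C_X(φ t) → S` onto a simple nonabelian group with 2-group kernel gives a surjection `C_D(z) ∩ C_D(t) → S`;
* `hasA` : the centralisers of the involutions of `J₂` map onto `A₅` with 2-group kernel;
* `exists_map_j2`.
-/

set_option autoImplicit false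

namespace Cfsg.Agent.PreUniqB.JTwoMap

open Cfsg Subgroup Cfsg.Agent.PreUniqB

universe u v w

/-! ### the general map -/

section Gen

variable {D : Type u} [Group D] {z : D} {X : Type v} [Group X] (φ : ↥(centralizer ({z} : Set D)) →* X)

/-- `z` in its centralizer -/
def zc : ↥(centralizer ({z} : Set D)) := ⟨z, mem_centralizer_singleton_iff.2 rfl⟩

theorem zc_comm (g : ↥(centralizer ({z} : Set D))) : g * zc = zc * g :=
  Subtype.ext (mem_centralizer_singleton_iff.1 g.2)

variable {φ}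

theorem conj_cases (hcen : ∀ k ∈ φ.ker, ∀ g, g * k = k * g) (htwo : ∀ k ∈ φ.ker, k * k = 1 → k = 1 ∨ k = zc)
    {t b : ↥(centralizer ({z} : Set D))} (htt : t * t = 1) (hb : φ b * φ t = φ t * φ b) :
    b * t * b⁻¹ = t ∨ (b * t * b⁻¹ = zc * t ∧ (zc : ↥(centralizer ({z} : Set D))) * zc = 1) := by
  have hti : t⁻¹ = t := inv_eq_of_mul_eq_one_left htt
  have hk : b * t * b⁻¹ * t ∈ φ.ker := by
    rw [MonoidHom.mem_ker, map_mul, map_mul, map_mul, map_inv, hb, mul_inv_cancel_right, ← map_mul, htt, map_one]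
  have h2 : (b * t * b⁻¹ * t) * (b * t * b⁻¹ * t) = 1 := by
    calc (b * t * b⁻¹ * t) * (b * t * b⁻¹ * t) = (b * t * b⁻¹ * t) * (b * t * b⁻¹) * t := by group
      _ = (b * t * b⁻¹) * (b * t * b⁻¹ * t) * t := by rw [hcen _ hk (b * t * b⁻¹)]
      _ = b * (t * t) * b⁻¹ * (t * t) := by group
      _ = 1 := by rw [htt, mul_one, mul_one, mul_inv_cancel]
  rcases htwo _ hk h2 with h | h
  · left
    rw [mul_eq_one_iff_eq_inv, hti] at h
    exact h
  · right
    refine ⟨?_, by rw [← h]; exact h2⟩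
    rw [← h]
    calc b * t * b⁻¹ = b * t * b⁻¹ * (t * t) := by rw [htt, mul_one]
      _ = b * t * b⁻¹ * t * t := by group

theorem comm_sq (hcen : ∀ k ∈ φ.ker, ∀ g, g * k = k * g) (htwo : ∀ k ∈ φ.ker, k * k = 1 → k = 1 ∨ k = zc)
    {t b : ↥(centralizer ({z} : Set D))} (htt : t * t = 1) (hb : φ b * φ t = φ t * φ b) :
    (b * b) * t = t * (b * b) := by
  rw [← mul_inv_eq_iff_eq_mul]
  rcases conj_cases hcen htwo htt hb with h | ⟨h, hzz⟩
  · calc b * b * t * (b * b)⁻¹ = b * (b * t * b⁻¹) * b⁻¹ := by group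
      _ = t := by rw [h, h]
  · calc b * b * t * (b * b)⁻¹ = b * (b * t * b⁻¹) * b⁻¹ := by group
      _ = (b * zc) * t * b⁻¹ := by rw [h]; group
      _ = zc * (b * t * b⁻¹) := by rw [zc_comm]; group
      _ = (zc * zc) * t := by rw [h]; group
      _ = t := by rw [hzz, one_mul]

theorem conj_comm (hcen : ∀ k ∈ φ.ker, ∀ g, g * k = k * g) (htwo : ∀ k ∈ φ.ker, k * k = 1 → k = 1 ∨ k = zc)
    {t b n : ↥(centralizer ({z} : Set D))} (htt : t * t = 1) (hb : φ b * φ t = φ t * φ b) (hn : n * t = t * n) :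
    (b * n * b⁻¹) * t = t * (b * n * b⁻¹) := by
  rw [← mul_inv_eq_iff_eq_mul]
  have hbi : φ b⁻¹ * φ t = φ t * φ b⁻¹ := by
    rw [map_inv, inv_mul_eq_iff_eq_mul, ← mul_assoc, hb, mul_assoc, mul_inv_cancel, mul_one]
  have hn' : n * t * n⁻¹ = t := mul_inv_eq_iff_eq_mul.2 hn
  rcases conj_cases hcen htwo htt hbi with h | ⟨h, -⟩
  · calc b * n * b⁻¹ * t * (b * n * b⁻¹)⁻¹ = b * (n * (b⁻¹ * t * b⁻¹⁻¹) * n⁻¹) * b⁻¹ := by group
      _ = b * (b⁻¹ * t * b⁻¹⁻¹) * b⁻¹ := by rw [h, hn']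
      _ = t := by group
  · calc b * n * b⁻¹ * t * (b * n * b⁻¹)⁻¹ = b * (n * (b⁻¹ * t * b⁻¹⁻¹) * n⁻¹) * b⁻¹ := by group
      _ = b * ((n * zc) * t * n⁻¹) * b⁻¹ := by rw [h]; group
      _ = b * (zc * (n * t * n⁻¹)) * b⁻¹ := by rw [zc_comm n]; group
      _ = b * (b⁻¹ * t * b⁻¹⁻¹) * b⁻¹ := by rw [hn', h]
      _ = t := by group

/-- `C_D(z) ∩ C_D(t) → C_X(φ t)` -/
def psi (φ : ↥(centralizer ({z} : Set D)) →* X) (t : ↥(centralizer ({z} : Set D))) :
    ↥(TZ t) →* ↥(centralizer ({φ t} : Set X)) where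
  toFun g := ⟨φ g, mem_centralizer_singleton_iff.2 (by
    rw [← map_mul, ← map_mul, mem_centralizer_singleton_iff.1 g.2])⟩
  map_one' := Subtype.ext (map_one φ)
  map_mul' a b := Subtype.ext (map_mul φ _ _)

/-- **The map.** -/
theorem exists_map [Finite D] {p : ℕ} (hp : p.Prime) (hp2 : p ≠ 2) (hφ : Function.Surjective φ)
    (hcen : ∀ k ∈ φ.ker, ∀ g, g * k = k * g) (htwo : ∀ k ∈ φ.ker, k * k = 1 → k = 1 ∨ k = zc)
    (hker : ¬ p ^ 2 ∣ Nat.card ↥φ.ker) {t : ↥(centralizer ({z} : Set D))} (htt : t * t = 1)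
    {S : Type w} [Group S] (hS : IsSimpleGroup S) (hnc : ∃ a b : S, a * b ≠ b * a)
    (π : ↥(centralizer ({φ t} : Set X)) →* S) (hπ : Function.Surjective π) (hπk : IsPGroup 2 ↥π.ker) :
    ∃ F : ↥(TZ t) →* S, Function.Surjective F ∧ Group.IsSolvable ↥F.ker ∧ ¬ p ^ 2 ∣ Nat.card ↥F.ker ∧
      ∀ g : ↥(TZ t), (g : ↥(centralizer ({z} : Set D))) = t → F g = 1 := by
  have hX : Finite X := Finite.of_surjective φ hφ
  have h2 : Fact (Nat.Prime 2) := ⟨Nat.prime_two⟩
  -- surjectivity
  have hsurj : Function.Surjective (π.comp (psi φ t)) := by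
    have hN : (psi φ t).range.Normal := by
      constructor
      rintro _ ⟨n, rfl⟩ ⟨c, hc⟩
      obtain ⟨b, rfl⟩ := hφ c
      have hb := mem_centralizer_singleton_iff.1 hc
      refine ⟨⟨b * n * b⁻¹, mem_centralizer_singleton_iff.2
        (conj_comm hcen htwo htt hb (mem_centralizer_singleton_iff.1 n.2))⟩, ?_⟩
      apply Subtype.ext
      show φ (b * n * b⁻¹) = φ b * φ n * (φ b)⁻¹
      rw [map_mul, map_mul, map_inv]
    have hN' : ((psi φ t).range.map π).Normal := hN.map π hπ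
    have hsq : ∀ s : S, s * s ∈ (psi φ t).range.map π := by
      intro s
      obtain ⟨⟨c, hc⟩, rfl⟩ := hπ s
      obtain ⟨b, rfl⟩ := hφ c
      have hb := mem_centralizer_singleton_iff.1 hc
      refine ⟨⟨φ b, hc⟩ * ⟨φ b, hc⟩, ⟨⟨b * b, mem_centralizer_singleton_iff.2 (comm_sq hcen htwo htt hb)⟩, ?_⟩,
        map_mul π _ _⟩
      apply Subtype.ext
      exact map_mul φ _ _
    rcases hN'.eq_bot_or_eq_top with h | h
    · exfalso
      obtain ⟨a, b, hab⟩ := hnc
      apply hab
      have h1 : ∀ s : S, s⁻¹ = s := by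
        intro s
        have h3 := hsq s
        rw [h, mem_bot] at h3
        exact inv_eq_of_mul_eq_one_left h3
      rw [← h1 (a * b), mul_inv_rev, h1, h1]
    · intro s
      have h1 : s ∈ (psi φ t).range.map π := by rw [h]; exact mem_top s
      obtain ⟨_, ⟨g, rfl⟩, rfl⟩ := h1
      exact ⟨g, rfl⟩
  -- the kernel
  let k1 : ↥(π.comp (psi φ t)).ker →* ↥π.ker :=
    ((psi φ t).comp (π.comp (psi φ t)).ker.subtype).codRestrict π.ker (fun x => x.2)
  have hk1 : ∀ x : ↥(π.comp (psi φ t)).ker, x ∈ k1.ker → ((x : ↥(TZ t)) : ↥(centralizer ({z} : Set D))) ∈ φ.ker := by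
    intro x hx
    rw [MonoidHom.mem_ker] at hx ⊢
    have h3 : psi φ t x = 1 := congrArg Subtype.val hx
    exact congrArg Subtype.val h3
  refine ⟨π.comp (psi φ t), hsurj, ?_, ?_, ?_⟩
  · have hsπ : Group.IsSolvable ↥π.ker := by
      have := hπk.isNilpotent
      exact inferInstance
    have hsk : Group.IsSolvable ↥k1.ker := by
      refine Group.isSolvable_of_comm fun a b => ?_
      apply Subtype.ext
      apply Subtype.ext
      apply Subtype.ext
      exact (hcen _ (hk1 b b.2) _)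
    exact Group.isSolvable_of_ker_le_range (f := k1.ker.subtype) (g := k1) (by rw [range_subtype])
  · intro hdvd
    have h3 : Nat.card ↥(π.comp (psi φ t)).ker = Nat.card ↥k1.ker * Nat.card ↥k1.range := by
      rw [Subgroup.card_eq_card_quotient_mul_card_subgroup k1.ker, mul_comm,
        Nat.card_congr (QuotientGroup.quotientKerEquivRange k1).toEquiv]
    have h4 : IsPGroup 2 ↥k1.range := hπk.to_subgroup k1.range
    obtain ⟨n, hn⟩ := IsPGroup.iff_card.1 h4
    have h5 : (p ^ 2).Coprime (Nat.card ↥k1.range) := by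
      rw [hn]
      exact Nat.Coprime.pow 2 n ((Nat.coprime_primes hp Nat.prime_two).2 hp2)
    rw [h3] at hdvd
    have h6 := h5.dvd_of_dvd_mul_right hdvd
    let j : ↥k1.ker →* ↥φ.ker :=
      { toFun := fun x => ⟨((x : ↥(π.comp (psi φ t)).ker) : ↥(TZ t)), hk1 x x.2⟩
        map_one' := rfl
        map_mul' := fun _ _ => rfl }
    have hj : Function.Injective j := by
      intro a b hab
      apply Subtype.ext
      apply Subtype.ext
      apply Subtype.ext
      exact congrArg (fun y : ↥φ.ker => (y : ↥(centralizer ({z} : Set D)))) hab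
    exact hker (h6.trans (Subgroup.card_dvd_of_injective j hj))
  · intro g hg
    obtain ⟨a, b, hab⟩ := hnc
    have hcen1 : center S = ⊥ := by
      rcases (inferInstance : (center S).Normal).eq_bot_or_eq_top with h | h
      · exact h
      · exfalso
        apply hab
        have h1 : b ∈ center S := by rw [h]; exact mem_top b
        exact mem_center_iff.1 h1 a
    have h1 : π (psi φ t g) ∈ center S := by
      rw [mem_center_iff]
      intro s
      obtain ⟨c, rfl⟩ := hπ s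
      rw [← map_mul, ← map_mul]
      congr 1
      apply Subtype.ext
      show (c : X) * φ g = φ g * c
      rw [hg]
      exact mem_centralizer_singleton_iff.1 c.2
    rw [hcen1, mem_bot] at h1
    exact h1

end Gen

/-! ### `J₂` -/

section JTwo

open Cfsg.Agent.J2Type.Model Cfsg.Agent.J2Type.SPFacts Cfsg.Agent.J2Type.CStruct
open Cfsg.Agent.J3Type.OneClass Cfsg.Agent.J2Type.Base Cfsg.Agent.KFacts.J2.Basic
open Cfsg.Agent.KFacts Cfsg.Agent.OddHalf.D4.Spor.JTwo
open Cfsg.Agent.KFacts.QMinus (permHom range_permHom ker_permHom)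

/-- the alternating group of degree five -/
abbrev A5 : Type := ↥(alternatingGroup (Fin 5))

theorem simple_A5 : IsSimpleGroup A5 := alternatingGroup.isSimpleGroup (by simp)

theorem nc_A5 : ∃ a b : A5, a * b ≠ b * a := by
  refine ⟨⟨([0, 1, 2] : List (Fin 5)).formPerm, by rw [Equiv.Perm.mem_alternatingGroup]; decide⟩,
    ⟨([0, 1, 3] : List (Fin 5)).formPerm, by rw [Equiv.Perm.mem_alternatingGroup]; decide⟩, fun h => ?_⟩
  have h2 : ([0, 1, 2] : List (Fin 5)).formPerm * ([0, 1, 3] : List (Fin 5)).formPerm =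
      ([0, 1, 3] : List (Fin 5)).formPerm * ([0, 1, 2] : List (Fin 5)).formPerm := congrArg Subtype.val h
  exact absurd h2 (by decide)

theorem card_A5 : Nat.card A5 = 60 := Cfsg.Agent.KFacts.QMinus.card_A5

/-- a surjection onto `A₅` whose kernel is a 2-group -/
def HasA (C : Type v) [Group C] : Prop := ∃ π : C →* A5, Function.Surjective π ∧ IsPGroup 2 ↥π.ker

theorem HasA.congr {C : Type v} {C' : Type w} [Group C] [Group C'] (e : C' ≃* C) (h : HasA C) : HasA C' := by
  obtain ⟨π, h1, h2⟩ := h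
  refine ⟨π.comp e.toMonoidHom, h1.comp e.surjective, ?_⟩
  rintro ⟨x, hx⟩
  obtain ⟨k, hk⟩ := h2 ⟨e x, hx⟩
  refine ⟨k, Subtype.ext (e.injective ?_)⟩
  have h3 : (e x) ^ 2 ^ k = 1 := congrArg Subtype.val hk
  show e (x ^ 2 ^ k) = e 1
  rw [map_pow, h3, map_one]

variable {X : Type v} [Group X]

/-- conjugation of centralizers -/
def conjC (g t : X) : ↥(centralizer ({g * t * g⁻¹} : Set X)) ≃* ↥(centralizer ({t} : Set X)) where
  toFun c := ⟨g⁻¹ * c * g, by
    have h := mem_centralizer_singleton_iff.1 c.2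
    rw [mem_centralizer_singleton_iff]
    calc g⁻¹ * (c : X) * g * t = g⁻¹ * ((c : X) * (g * t * g⁻¹)) * g := by group
      _ = g⁻¹ * ((g * t * g⁻¹) * c) * g := by rw [h]
      _ = t * (g⁻¹ * c * g) := by group⟩
  invFun c := ⟨g * c * g⁻¹, by
    have h := mem_centralizer_singleton_iff.1 c.2
    rw [mem_centralizer_singleton_iff]
    calc g * (c : X) * g⁻¹ * (g * t * g⁻¹) = g * ((c : X) * t) * g⁻¹ := by group
      _ = g * (t * c) * g⁻¹ := by rw [h]
      _ = g * t * g⁻¹ * (g * c * g⁻¹) := by group⟩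
  left_inv c := Subtype.ext (by show g * (g⁻¹ * (c : X) * g) * g⁻¹ = c; group)
  right_inv c := Subtype.ext (by show g⁻¹ * (g * (c : X) * g⁻¹) * g = c; group)
  map_mul' a b := Subtype.ext (by
    show g⁻¹ * ((a : X) * b) * g = g⁻¹ * a * g * (g⁻¹ * b * g); group)

theorem HasA.conj {t s : X} (hc : IsConj t s) (h : HasA ↥(centralizer ({t} : Set X))) :
    HasA ↥(centralizer ({s} : Set X)) := by
  obtain ⟨g, rfl⟩ := isConj_iff.1 hc
  exact h.congr (conjC g t)

variable {t u : X} {Q : Subgroup (centralizer ({t} : Set X))}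
  {v : Fin 5 → centralizer ({t} : Set X)} {ρ : centralizer ({t} : Set X) →* SP}

theorem hasA_t [Finite X] (D : Dat t u Q v ρ) : HasA ↥(centralizer ({t} : Set X)) := by
  let f : ↥(centralizer ({t} : Set X)) →* A5 := (permHom ρ).codRestrict _ fun c => by
    rw [← range_permHom D.M]; exact ⟨c, rfl⟩
  have hf : Function.Surjective f := by
    rintro ⟨σ, hσ⟩
    rw [← range_permHom D.M] at hσ
    obtain ⟨c, hc⟩ := hσ
    exact ⟨c, Subtype.ext hc⟩
  have hk : f.ker = Q := by
    rw [← ker_permHom D.M]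
    ext c
    rw [MonoidHom.mem_ker, MonoidHom.mem_ker]
    exact Subtype.ext_iff
  refine ⟨f, hf, ?_⟩
  rw [hk]
  exact IsPGroup.of_card (n := 5) (by rw [D.cardQ]; norm_num)

theorem hasA_u [Finite X] (D : Dat t u Q v ρ) : HasA ↥(centralizer ({u} : Set X)) := by
  obtain ⟨f, U, V, H0, F⟩ := Cfsg.Agent.J2Type.CentU.main D.F
  obtain ⟨e⟩ := equiv_H0 D F
  have h60 := card_H0 D F
  have hcomm : ∀ a ∈ V, ∀ b ∈ H0, a * b = b * a := fun a ha b hb => Cfsg.Agent.J2Type.Cent5.V_comm D.F F h60 ha hb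
  have hVle : V ≤ centralizer ({u} : Set X) := Cfsg.Agent.J2Type.Cent5.V_le F
  have hmul : ∀ c : ↥(centralizer ({u} : Set X)), ∃ a ∈ V, ∃ b ∈ H0, (c : X) = a * b := fun c =>
    Cfsg.Agent.J2Type.Cent5.exists_mul F c.2
  let V' : Subgroup ↥(centralizer ({u} : Set X)) := V.subgroupOf (centralizer ({u} : Set X))
  have hV' : V'.Normal := by
    constructor
    intro n hn c
    obtain ⟨a, ha, b, hb, hc⟩ := hmul c
    rw [mem_subgroupOf] at hn ⊢
    show (c : X) * n * (c : X)⁻¹ ∈ V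
    rw [hc]
    have h1 := hcomm n hn b hb
    have h2 : a * b * (n : X) * (a * b)⁻¹ = a * n * a⁻¹ := by
      calc a * b * (n : X) * (a * b)⁻¹ = a * (b * n) * b⁻¹ * a⁻¹ := by group
        _ = a * (n * b) * b⁻¹ * a⁻¹ := by rw [h1]
        _ = a * n * a⁻¹ := by group
    rw [h2]
    exact V.mul_mem (V.mul_mem ha hn) (V.inv_mem ha)
  let j : ↥H0 →* ↥(centralizer ({u} : Set X)) ⧸ V' := (QuotientGroup.mk' V').comp (inclusion F.str.le)
  have hcen : ∀ b ∈ H0, b ∈ V → b = 1 := by
    intro b hb hbV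
    have h1 : (⟨b, hb⟩ : H0) ∈ center H0 := mem_center_iff.2 fun c => Subtype.ext (hcomm b hbV c c.2).symm
    have h2 : e ⟨b, hb⟩ ∈ center A5 := by
      rw [mem_center_iff]
      intro s
      obtain ⟨c, rfl⟩ := e.surjective s
      rw [← map_mul, ← map_mul, mem_center_iff.1 h1 c]
    have h3 : center A5 = ⊥ := by
      have := simple_A5
      rcases (inferInstance : (center A5).Normal).eq_bot_or_eq_top with h | h
      · exact h
      · exfalso
        obtain ⟨a, b, hab⟩ := nc_A5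
        apply hab
        have h4 : b ∈ center A5 := by rw [h]; exact mem_top b
        exact mem_center_iff.1 h4 a
    rw [h3, mem_bot] at h2
    have h4 : (⟨b, hb⟩ : H0) = 1 := e.injective (by rw [h2, map_one])
    exact congrArg Subtype.val h4
  have hj : Function.Bijective j := by
    constructor
    · rw [injective_iff_map_eq_one]
      rintro ⟨b, hb⟩ h
      have h1 : (inclusion F.str.le ⟨b, hb⟩ : ↥(centralizer ({u} : Set X))) ∈ V' :=
        (QuotientGroup.eq_one_iff _).1 h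
      exact Subtype.ext (hcen b hb (mem_subgroupOf.1 h1))
    · intro y
      obtain ⟨c, rfl⟩ := QuotientGroup.mk'_surjective V' y
      obtain ⟨a, ha, b, hb, hc⟩ := hmul c
      refine ⟨⟨b, hb⟩, ?_⟩
      show QuotientGroup.mk (inclusion F.str.le ⟨b, hb⟩) = (QuotientGroup.mk c : ↥(centralizer ({u} : Set X)) ⧸ V')
      rw [QuotientGroup.eq, mem_subgroupOf]
      show (b : X)⁻¹ * c ∈ V
      rw [hc, hcomm a ha b hb, inv_mul_cancel_left]
      exact ha
  let ej : ↥H0 ≃* ↥(centralizer ({u} : Set X)) ⧸ V' := MulEquiv.ofBijective j hj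
  refine ⟨(ej.symm.trans e).toMonoidHom.comp (QuotientGroup.mk' V'),
    (ej.symm.trans e).surjective.comp (QuotientGroup.mk'_surjective V'), ?_⟩
  rintro ⟨c, hc⟩
  have h1 : (ej.symm.trans e) (QuotientGroup.mk' V' c) = 1 := hc
  have h2 : QuotientGroup.mk' V' c = 1 := (ej.symm.trans e).injective (by rw [h1, map_one])
  have h3 : c ∈ V' := (QuotientGroup.eq_one_iff _).1 h2
  have h4 := Cfsg.Agent.J2Type.Cent5.sq_V D.F F (mem_subgroupOf.1 h3)
  refine ⟨1, Subtype.ext (Subtype.ext ?_)⟩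
  show (c : X) ^ 2 ^ 1 = 1
  rw [pow_one, pow_two]
  exact h4

/-- **The centralisers of the involutions of `J₂`.** -/
theorem hasA [Finite X] (h : Spor.IsoJ2 X) {s : X} (hs : orderOf s = 2) : HasA ↥(centralizer ({s} : Set X)) := by
  obtain ⟨t, u, Q, v, ρ, D⟩ := Cfsg.Agent.KFacts.J2.Facts.exists_dat_of h
  rcases D.F.cover s hs with h | h
  · exact (hasA_t D).conj h
  · exact (hasA_u D).conj h

/-- **The map for `J₂`.** -/
theorem exists_map_j2 {D : Type u} [Group D] [Finite D] {z : D} {φ : ↥(centralizer ({z} : Set D)) →* X} {p : ℕ}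
    (hp : p.Prime) (hp2 : p ≠ 2) (hX : Spor.IsoJ2 X) (hφ : Function.Surjective φ)
    (hcen : ∀ k ∈ φ.ker, ∀ g, g * k = k * g) (htwo : ∀ k ∈ φ.ker, k * k = 1 → k = 1 ∨ k = zc)
    (hker : ¬ p ^ 2 ∣ Nat.card ↥φ.ker) {t : ↥(centralizer ({z} : Set D))} (htt : t * t = 1) (ht : φ t ≠ 1) :
    ∃ F : ↥(TZ t) →* A5, Function.Surjective F ∧ Group.IsSolvable ↥F.ker ∧ ¬ p ^ 2 ∣ Nat.card ↥F.ker ∧
      ∀ g : ↥(TZ t), (g : ↥(centralizer ({z} : Set D))) = t → F g = 1 := by
  have hfin : Finite X := Finite.of_surjective φ hφ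
  have h2 : Fact (Nat.Prime 2) := ⟨Nat.prime_two⟩
  obtain ⟨π, hπ, hπk⟩ := hasA hX (s := φ t) (orderOf_eq_prime (by rw [← map_pow, pow_two, htt, map_one]) ht)
  exact exists_map hp hp2 hφ hcen htwo hker htt simple_A5 nc_A5 π hπ hπk

end JTwo

end Cfsg.Agent.PreUniqB.JTwoMap

end

-- merged: Cfsg.Agent.PreUniqB.ModelFive
section

/-!
# `NoPre 5 Spor.BabyMonster` (helper19)

* `zero_five` : fixed rank 0, from `C_{Co1}(s)/⟨s⟩ ≅ J₂`;
* `noPre_five`.
-/

set_option autoImplicit false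
set_option maxRecDepth 100000

namespace Cfsg.Agent.PreUniqB.ModelFive

open Cfsg Cfsg.Agent.MonsterU Cfsg.Agent.PreUniq Cfsg.Agent.PreUniqB
open Cfsg.Agent.LThreeMB (fr Zx XX zD toXX exists_XX_equiv KChart.Cent KChart.pi KChart.chart)
open Cfsg.Agent.MFive (orderOf_pi TrNe HasPair isolated toXX_surj HNEight)
open Cfsg.Agent.MonsterU.Ch
open Cfsg.Agent.MonsterU.Lam2 (L2)
open Cfsg.Agent.CpAutBFive
open Cfsg.Spor (Co1)
open Subgroup (centralizer zpowers mem_centralizer_singleton_iff)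

universe u v

/-- a group whose elements are `x ^ i`, `x ^ i z` with `x ^ n = 1` has at most `2 n` elements -/
theorem card_le {D : Type u} [Group D] {K : Subgroup D} {x z : D} {n : ℕ} (hn : 0 < n) (hx : x ^ n = 1)
    (h : ∀ k ∈ K, ∃ i : ℤ, k = x ^ i ∨ k = x ^ i * z) : Nat.card ↥K ≤ n * 2 := by
  have h3 : (0 : ℤ) < n := by exact_mod_cast hn
  have key : ∀ i : ℤ, ∃ j : Fin n, x ^ i = x ^ (j : ℕ) := by
    intro i
    refine ⟨⟨(i % n).toNat, ?_⟩, ?_⟩
    · have := Int.emod_lt_of_pos i h3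
      have := Int.emod_nonneg i h3.ne'
      omega
    · have h4 : (((i % n).toNat : ℕ) : ℤ) = i % n := Int.toNat_of_nonneg (Int.emod_nonneg i h3.ne')
      show x ^ i = x ^ (i % n).toNat
      rw [← zpow_natCast, h4]
      conv_lhs => rw [← Int.mul_ediv_add_emod i n, zpow_add, zpow_mul, zpow_natCast, hx, one_zpow, one_mul]
  let f : Fin n × Fin 2 → D := fun a => x ^ (a.1 : ℕ) * (if a.2 = 0 then 1 else z)
  have h1 : (K : Set D) ⊆ Set.range f := by
    intro k hk
    obtain ⟨i, hi | hi⟩ := h k hk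
    · obtain ⟨j, hj⟩ := key i
      exact ⟨(j, 0), by simp only [f, if_pos, mul_one]; rw [hi, hj]⟩
    · obtain ⟨j, hj⟩ := key i
      exact ⟨(j, 1), by simp only [f, one_ne_zero, if_false]; rw [hi, hj]⟩
  have h2 := Set.ncard_le_ncard h1 (Set.finite_range f)
  have h5 : (Set.range f).ncard ≤ n * 2 := by
    rw [← Set.image_univ]
    refine (Set.ncard_image_le (Set.finite_univ)).trans ?_
    rw [Set.ncard_univ, Nat.card_eq_fintype_card, Fintype.card_prod, Fintype.card_fin, Fintype.card_fin]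
  exact h2.trans h5

section chart

variable {p : ℕ} {G : Type u} [Group G] {Q : Subgroup G} {z : G} {eta : G → L2}
  {pi : Subgroup.centralizer ({z} : Set G) →* Co1} {T : G → Prop}

theorem sq_one (ho : Odd p) {x : G} (hx : x ^ p = 1) {i : ℤ} (h : x ^ i * x ^ i = 1) : x ^ i = 1 := by
  obtain ⟨m, rfl⟩ := ho
  have h1 : (x ^ i) ^ (2 * m + 1) = 1 := by
    rw [← zpow_natCast, ← zpow_mul, mul_comm, zpow_mul, zpow_natCast, hx, one_zpow]
  rwa [pow_succ, pow_mul, pow_two, h, one_pow, one_mul] at h1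

theorem spl_A5 : MonThree.Spl 5 JTwoMap.A5 :=
  MonThree.spl_of JTwoMap.simple_A5 JTwoMap.card_A5 (by norm_num) (by norm_num)

/-- **Fixed rank 0**, `p = 5`. -/
theorem zero_five (FT : ∀ (K : Type u) [Group K] [Finite K], Odd (Nat.card K) → Group.IsSolvable K) [Finite G]
    (h : Chart Q z eta pi) (htr : TrNe 5 z pi)
    (ranks : ∀ s : Co1, orderOf s = 5 → fr s = 1 ∨ fr s = 2 ^ 4 ∨ fr s = 2 ^ 8)
    (hJ : ∀ s : Co1, orderOf s = 5 → fr s = 1 → Spor.IsoJ2 (XX s)) (h8 : HNEight z pi) (hT : TCl Q z T) :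
    Zero 5 z pi T := by
  intro x t hx hfr htT htz htx ⟨k, hk⟩
  have hp := Nat.prime_five
  have ho : Odd 5 := by decide
  have hxp : x ^ 5 = 1 := by rw [← hx, pow_orderOf_eq_one]
  have hxG : (x : G) ^ 5 = 1 := congrArg Subtype.val hxp
  have hzz : z * z = 1 := h.large.z_sq
  have hxz : Commute (x : G) z := mem_centralizer_singleton_iff.1 x.2
  set tA := tD (z' := zD x) htx htz with htA
  have htAA : tA * tA = 1 := Subtype.ext (Subtype.ext (hT.sq htT))
  have hcen : ∀ k ∈ (toXX pi x).ker, ∀ g, g * k = k * g := by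
    intro k hk g
    have hgx : Commute ((g : ↥(centralizer ({(x : G)} : Set G))) : G) (x : G) :=
      mem_centralizer_singleton_iff.1 g.1.2
    have hgz : Commute ((g : ↥(centralizer ({(x : G)} : Set G))) : G) z :=
      congrArg Subtype.val (mem_centralizer_singleton_iff.1 g.2)
    apply Subtype.ext
    apply Subtype.ext
    show ((g : ↥(centralizer ({(x : G)} : Set G))) : G) * ((k : ↥(centralizer ({(x : G)} : Set G))) : G) =
      ((k : ↥(centralizer ({(x : G)} : Set G))) : G) * ((g : ↥(centralizer ({(x : G)} : Set G))) : G)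
    obtain ⟨i, hi | hi⟩ := MonGen.ker_sub h ho hxp hfr k hk
    · rw [hi]; exact (hgx.zpow_right i).eq
    · rw [hi]; exact ((hgx.zpow_right i).mul_right hgz).eq
  have htwo : ∀ k ∈ (toXX pi x).ker, k * k = 1 → k = 1 ∨ k = JTwoMap.zc := by
    intro k hk hkk
    have hkk' : ((k : ↥(centralizer ({(x : G)} : Set G))) : G) * ((k : ↥(centralizer ({(x : G)} : Set G))) : G) = 1 :=
      congrArg (fun g : ↥(centralizer ({zD x} : Set ↥(centralizer ({(x : G)} : Set G)))) =>
        ((g : ↥(centralizer ({(x : G)} : Set G))) : G)) hkk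
    obtain ⟨i, hi | hi⟩ := MonGen.ker_sub h ho hxp hfr k hk
    · left
      apply Subtype.ext
      apply Subtype.ext
      rw [hi] at hkk'
      exact hi.trans (sq_one ho hxG hkk')
    · right
      apply Subtype.ext
      apply Subtype.ext
      rw [hi] at hkk'
      have h4 : (x : G) ^ i * (x : G) ^ i = 1 := by
        calc (x : G) ^ i * (x : G) ^ i = (x : G) ^ i * ((x : G) ^ i * (z * z)) := by rw [hzz, mul_one]
          _ = (x : G) ^ i * (((x : G) ^ i * z) * z) := by rw [mul_assoc]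
          _ = (x : G) ^ i * ((z * (x : G) ^ i) * z) := by rw [(hxz.zpow_left i).eq]
          _ = (x : G) ^ i * z * ((x : G) ^ i * z) := by group
          _ = 1 := hkk'
      show ((k : ↥(centralizer ({(x : G)} : Set G))) : G) = z
      rw [hi, sq_one ho hxG h4, one_mul]
  have hker : ¬ 5 ^ 2 ∣ Nat.card ↥((toXX pi x).ker) := by
    intro h9
    have h6 : Nat.card ↥((toXX pi x).ker) ≤ 5 * 2 := by
      let K' : Subgroup G := (((toXX pi x).ker.map (centralizer ({zD x} :
        Set ↥(centralizer ({(x : G)} : Set G)))).subtype).map (centralizer ({(x : G)} : Set G)).subtype)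
      have h7 : Nat.card ↥K' = Nat.card ↥((toXX pi x).ker) := by
        rw [Nat.card_congr ((Subgroup.equivMapOfInjective _ _ (Subgroup.subtype_injective _)).toEquiv.symm),
          Nat.card_congr ((Subgroup.equivMapOfInjective _ _ (Subgroup.subtype_injective _)).toEquiv.symm)]
      rw [← h7]
      refine card_le (x := (x : G)) (z := z) (by norm_num) hxG ?_
      rintro _ ⟨_, ⟨k, hk, rfl⟩, rfl⟩
      exact MonGen.ker_sub h ho hxp hfr k hk
    have h7 : 5 ^ 2 ≤ Nat.card ↥((toXX pi x).ker) := Nat.le_of_dvd Nat.card_pos h9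
    omega
  have htA1 : toXX pi x tA ≠ 1 := by
    intro h1
    rcases htwo tA h1 htAA with h2 | h2
    · exact hT.ne_one htT (congrArg (fun g : ↥(centralizer ({zD x} : Set ↥(centralizer ({(x : G)} : Set G)))) =>
        ((g : ↥(centralizer ({(x : G)} : Set G))) : G)) h2)
    · exact hT.ne t htT (congrArg (fun g : ↥(centralizer ({zD x} : Set ↥(centralizer ({(x : G)} : Set G)))) =>
        ((g : ↥(centralizer ({(x : G)} : Set G))) : G)) h2)
  obtain ⟨F, hF, hFs, hFc, hFt⟩ := JTwoMap.exists_map_j2 hp (by norm_num) (hJ _ (orderOf_pi h hp ho hx) hfr)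
    (toXX_surj h hp ho hxp) hcen htwo hker htAA htA1
  have hfr' := fr_conj_eq h hp ho htr (n := 2 ^ 4) (R := fun n => n = 2 ^ 8) ranks
    (fun y hy h2 => by
      obtain ⟨e⟩ := id (h8 y hy h2)
      have hs := Cfsg.Agent.S1701.result
      exact MonThree.spl_of ((MulEquiv.isSimpleGroup_congr e).2 hs.1) ((Nat.card_congr e.toEquiv).trans hs.2)
        (by norm_num) (by norm_num)) hx hfr (hT.sq htT) (hT.ne_one htT) htz htx (hT.ne t htT) hk
  refine rkT_zero FT h hp ho hx (fun d hd hc => isolated h htr hx hfr d hd hc) htz htx hk spl_A5 F hF hFs hFc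
    (fun g hg => hFt g (Subtype.ext (Subtype.ext hg))) (r := 3)
    (by norm_num) (by decide) (by rw [JTwoMap.card_A5]; norm_num) ?_
  intro s y hs hy hsy hfix
  rw [hfr']
  exact FiveFix.five_fix s y hs hy hsy hfix

end chart

/-- **`NoPre 5 B`** for the group of the definition. -/
theorem noPre_five_baby (hJ : ∀ s : Co1, orderOf s = 5 → fr s = 1 → Spor.IsoJ2 (XX s)) :
    NoPre 5 Spor.BabyMonster := by
  have hfin : Finite ↥MonsterX.InstData.M.G := MFive.Row.finite_model
  have h := KChart.chart MonsterX.KDone.lft MFive.Row.hc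
  have htr := MFive.KPair.trNe_five MonsterX.KDone.lft Cfsg.Agent.LThreeMBTr.tens MFive.Row.hc
  have hsim : IsSimpleGroup ↥MonsterX.InstData.M.G := MFive.Row.simple_model
  have h8 : HNEight MonsterX.KDone.K.z (KChart.pi MFive.Row.hc) := MFiveHN.Closed.hnEight h
  refine Model.noPre_of Nat.prime_five (by norm_num) fun x v hx hv hxv => ?_
  rcases EvenRow.cases_solvable hx with hex | hs
  · exact rkT_five h htr (MFive.KPair.hasPair Nat.prime_five (by decide) MonsterX.KDone.lft Cfsg.Agent.LThreeMBTr.tens MFive.Row.hc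
      MFive.Row.two MFive.Oct.octPair) CoFive.Ranks.ranks (CoFive.Ranks.wclassOf _) h8 Model.tcl
      (zero_five MFive.Row.FT h htr CoFive.Ranks.ranks hJ h8 Model.tcl) hx hv hxv hex
  · intro Y _ _ f hf _
    have h1 : Group.IsSolvable ↥(XTT x v) := Group.isSolvable_of_isSolvable_injective
      (f := Subgroup.inclusion inf_le_left) (Subgroup.inclusion_injective _)
    exact RkOne.of_solvable (Group.isSolvable_of_surjective (f := f) hf)

/-- **`NoPre 5 B`.** -/
theorem noPre_five (hJ : ∀ s : Co1, orderOf s = 5 → fr s = 1 → Spor.IsoJ2 (XX s)) {G : Type u} [Group G]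
    (h : Spor.IsoB G) : NoPre 5 G := by
  obtain ⟨e⟩ := h
  exact NoPre.congr e.symm (noPre_five_baby hJ)

end Cfsg.Agent.PreUniqB.ModelFive

end
end

private theorem dce_397597f0a37b : _root_.True := by
  try have : _root_.True := by simp only [_root_.Cfsg.Agent.PreUniqB.RegFour.prd.eq_1]
  exact _root_.True.intro
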